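import Cfsg.Agent.Lib.PG.Hyp

/-! O'Nan's theorem: coordinates. -/

set_option autoImplicit false
set_option linter.unusedSectionVars false

namespace Cfsg.Lib.PG

open Subgroup MulAction

universe u

variable {G : Type u} {X : Type*} [Group G] [MulAction G X]

/-- Homogeneous coordinates for the linear space. -/
structure Crd (V : X → Subgroup G) (F : Type*) [Field F] {W : Type*} [AddCommGroup W] [Module F W] (π : W → X) :
    Prop where
  sur : ∀ x, ∃ w, w ≠ 0 ∧ π w = x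
  eq : ∀ {u w}, u ≠ 0 → w ≠ 0 → (π u = π w ↔ ∃ c : F, c • u = w)
  col : ∀ {u w}, u ≠ 0 → w ≠ 0 → π u ≠ π w → ∀ z,
    Col V (π u) (π w) z ↔ ∃ a b : F, a • u + b • w ≠ 0 ∧ π (a • u + b • w) = z

theorem Crd.map {V : X → Subgroup G} {F : Type*} [Field F] {W W' : Type*} [AddCommGroup W] [Module F W]
    [AddCommGroup W'] [Module F W'] {π : W → X} (h : Crd V F π) (e : W' ≃ₗ[F] W) : Crd V F (π ∘ e) where
  sur x := let ⟨w, h0, h1⟩ := h.sur x; ⟨e.symm w, by simpa using h0, by simpa using h1⟩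
  eq hu hw := (h.eq (by simpa using hu) (by simpa using hw)).trans (by simp [← map_smul])
  col hu hw hne z := (h.col (by simpa using hu) (by simpa using hw) hne z).trans (by
    simp only [← map_smul, ← map_add, Function.comp, ne_eq, EmbeddingLike.map_eq_zero_iff])

namespace OA

variable [Finite G] [Finite X] {p : ℕ} [hp : Fact p.Prime] {V : X → Subgroup G} (h : OA p V) {H : Set X}
  (hH : Hyp V H)
include h hH

theorem exists_mod : ∃ (F : Type) (_ : Field F) (_ : Fintype F) (M : Type u) (_ : AddCommGroup M) (_ : Module F M)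
    (val : M → G), Function.Injective val ∧ (∀ a b, val (a + b) = val a * val b) ∧
      (∀ t, t ∈ h.TT hH ↔ ∃ m, val m = t) ∧
      ∀ y ∈ H, ∀ t, val t ∈ V y → t ≠ 0 → ∀ s, val s ∈ V y ↔ ∃ c : F, c • t = s := by
  let _ : CommGroup (h.TT hH) :=
    { (inferInstance : Group (h.TT hH)) with mul_comm := fun a b => Subtype.ext (h.TT_comm hH a.2 b.2) }
  let M := Additive (h.TT hH)
  let val : M → G := fun m => m.toMul
  have vi : Function.Injective val := fun a b e => Subtype.ext e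
  have va : ∀ a b, val (a + b) = val a * val b := fun _ _ => rfl
  have vm : ∀ a, val a ∈ h.TT hH := fun a => a.toMul.2
  have v0 : ∀ {a}, a ≠ 0 → val a ≠ 1 := fun h0 e => h0 (vi e)
  let T : H → AddSubgroup M := fun y => ((V y).subgroupOf (h.TT hH)).toAddSubgroup
  have hT : ∀ {y t}, t ∈ T y ↔ val t ∈ V y := Iff.rfl
  let Δ : H → AddSubgroup (AddMonoid.End M) := fun y =>
    { carrier := {d | ∃ v ∈ V y, ∀ t, val (d t) = v * val t * v⁻¹ * (val t)⁻¹}
      zero_mem' := ⟨1, one_mem _, fun t => by rw [one_mul, inv_one, mul_one, mul_inv_cancel]; rfl⟩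
      add_mem' := fun {d d'} ⟨v, hv, e⟩ ⟨v', hv', e'⟩ => ⟨v * v', mul_mem hv hv', fun t => by
        have k := h.comm _ v hv _ (h.TT_cm hH y.2 hv' (vm t))
        change val (d t + d' t) = _
        rw [add_comm, va, e, e', ← mul_assoc, ← mul_assoc, ← mul_assoc, ← k]; group⟩
      neg_mem' := fun {d} ⟨v, hv, e⟩ => ⟨v⁻¹, inv_mem hv, fun t => by
        have k := h.comm _ v hv _ (h.TT_cm hH y.2 (inv_mem hv) (vm t))
        change (val (d t))⁻¹ = _
        rw [e, inv_eq_iff_mul_eq_one, h.comm _ _ (h.TT_cm hH y.2 hv (vm t)) _ (h.TT_cm hH y.2 (inv_mem hv) (vm t)),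
          ← mul_assoc, ← mul_assoc, ← mul_assoc, ← k]; group⟩ }
  have hd : ∀ y : H, ∀ v ∈ V y, ∃ d ∈ Δ y, ∀ t, val (d t) = v * val t * v⁻¹ * (val t)⁻¹ := fun y v hv => by
    refine ⟨AddMonoidHom.mk' (fun t => Additive.ofMul ⟨_, mul_mem (h.TT_conj hH y.2 hv (vm t)) (inv_mem (vm t))⟩)
      fun s t => vi ?_, ⟨v, hv, fun _ => rfl⟩, fun _ => rfl⟩
    change v * (val s * val t) * v⁻¹ * (val s * val t)⁻¹ =
      v * val s * v⁻¹ * (val s)⁻¹ * (v * val t * v⁻¹ * (val t)⁻¹)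
    rw [mul_assoc (v * val s * v⁻¹), h.TT_comm hH (inv_mem (vm s)) (mul_mem (h.TT_conj hH y.2 hv (vm t)) (inv_mem (vm t)))]
    group
  have ne' : ∀ {y z : H}, y ≠ z → (y : X) ≠ z := fun k e => k (Subtype.ext e)
  have hadd : ∀ (v : G) t d, val d = v * val t * v⁻¹ * (val t)⁻¹ → val (t + d) = v * val t * v⁻¹ := fun v t d e => by
    rw [add_comm, va, e, inv_mul_cancel_right]
  have hS : SP T Δ :=
    { im := fun {y} d ⟨v, hv, e⟩ t => hT.2 (e t ▸ h.TT_cm hH y.2 hv (vm t))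
      kill := fun {y} d ⟨v, hv, e⟩ t ht => vi (by rw [e, h.comm _ v hv _ (hT.1 ht)]; group; rfl)
      sur := fun {y z} hyz t ht t0 s hs => by
        obtain ⟨v, hv, e⟩ := h.surT hH y.2 (ne' hyz) ht (v0 t0) (vm t).2 hs (vm s).2
        obtain ⟨d, hd, e'⟩ := hd y v hv
        exact ⟨d, hd, vi ((e' t).trans e)⟩
      inv := fun {y z} hyz d ⟨v, hv, e⟩ t ht t0 => by
        have h1 : v • (z : X) ≠ z := fun k => v0 t0 (by rw [e, h.commAB (ne' hyz) hv k (hT.1 ht) ((vm t).2 _ y.2)]; group)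
        obtain ⟨c, hc, k⟩ := h.trans (ne' hyz).symm h1.symm (h.col_symm (ne' hyz) (h.col_V hv col_right))
        obtain ⟨d', hd', e'⟩ := hd z c hc
        refine ⟨d', hd', fun t ht => vi ?_, fun s hs => vi ?_⟩
        · rw [e']; exact h.inv_aux hH y.2 z.2 hv hc k.symm h1 (vm t) ht (e t)
        · rw [e]; exact h.inv_aux hH z.2 y.2 hc hv k (k ▸ (h.smul_ne hv (ne' hyz)).symm) (vm s) hs (e' s)
      tri := fun {y w z} hyw hyz hwz => by
        by_cases hn : Col V y z w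
        · obtain ⟨v, hv, k⟩ := h.trans (ne' hyz) (ne' hyw) hn
          obtain ⟨d, hd, e⟩ := hd y v hv
          exact Or.inl ⟨d, hd, fun t ht => hT.2 (by rw [hadd v t _ (e t), ← k]; exact h.eqv v _ _ ht)⟩
        · refine Or.inr fun d ⟨v, hv, e⟩ d' ⟨c, hc, e'⟩ => ?_
          obtain ⟨v', hv', k⟩ := h.tri_aux hH y.2 w.2 (ne' hyw) (ne' hyz) (ne' hwz) hn hv hc
          obtain ⟨d'', hd'', e''⟩ := hd y v' hv'
          exact ⟨d'', hd'', fun t ht => vi (by rw [e, e'', k _ (vm t) ht _ (e' t)])⟩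
      cov := fun t => let ⟨y, hy, ht⟩ := (vm t).1; ⟨⟨y, hy⟩, ht⟩
      dis := fun hyz t h1 h2 => vi (h.ti (ne' hyz) h1 h2)
      ne := fun y => let ⟨a, ha, h1, hf⟩ := h.exT hH y.2
        ⟨Additive.ofMul ⟨a, ⟨y, y.2, ha⟩, hf⟩, ha, fun e => h1 (congrArg val e)⟩
      two := fun y => let ⟨z, hz, e⟩ := h.two_pts hH y; ⟨⟨z, hz⟩, fun k => e (congrArg Subtype.val k)⟩ }
  obtain ⟨F, _, _, _, hF⟩ := hS.exists_field (p := p) fun m => vi (let ⟨y, _, k⟩ := (vm m).1; h.pw y _ k)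
  exact ⟨F, inferInstance, inferInstance, M, inferInstance, inferInstance, val, vi, va,
    fun t => ⟨fun ht => ⟨Additive.ofMul ⟨t, ht⟩, rfl⟩, fun ⟨m, e⟩ => e ▸ vm m⟩, fun y hy => hF ⟨y, hy⟩⟩

theorem exists_crd0 : ∃ (F : Type) (_ : Field F) (_ : Fintype F) (W : Type u) (_ : AddCommGroup W) (_ : Module F W)
    (_ : Finite W) (π : W → X), Crd V F π := by
  classical
  obtain ⟨F, _, _, M, _, _, val, vi, va, vT, hF⟩ := h.exists_mod hH
  have : Finite M := Finite.of_injective _ vi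
  have vm : ∀ a, val a ∈ h.TT hH := fun a => (vT _).2 ⟨a, rfl⟩
  have v0 : val 0 = 1 := by simpa using va 0 0
  have v1 : ∀ {a}, a ≠ 0 → val a ≠ 1 := fun h0 e => h0 (vi (e.trans v0.symm))
  have vs : ∀ a b, val (a - b) = val a * (val b)⁻¹ := fun a b => by rw [eq_mul_inv_iff_mul_eq, ← va, sub_add_cancel]
  choose pt hpt hpt' using fun t => (vm t).1
  have pu : ∀ {t y}, t ≠ 0 → val t ∈ V y → pt t = y := fun t0 k => by_contra fun e => v1 t0 (h.ti e (hpt' _) k)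
  obtain ⟨o, ho⟩ := hH.ne
  have hoff : ∀ m, val m • o ∉ H := fun m k => ho (by rwa [← smul_left_cancel _ (((vm m).2 _ k).trans (rfl))])
  have hinj : ∀ m m', val m • o = val m' • o → m = m' := fun m m' e => by
    rw [← sub_eq_zero]
    refine vi (v0.symm ▸ h.eq_one hH (hpt' _) (vm _).2 (hoff m') ?_)
    rw [vs, mul_smul, inv_smul_smul, e]
  let π : F × M → X := fun w => if w.1 = 0 then pt w.2 else val (w.1⁻¹ • w.2) • o
  have π0 : ∀ t, π (0, t) = pt t := fun _ => if_pos rfl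
  have π1 : ∀ w : F × M, w.1 ≠ 0 → π w = val (w.1⁻¹ • w.2) • o := fun _ k => if_neg k
  have ne2 : ∀ {t : M}, ((0 : F), t) ≠ 0 → t ≠ 0 := fun k e => k (by rw [e]; rfl)
  have hsc : ∀ (c : F) w, c • w ≠ 0 → π (c • w) = π w := fun c ⟨a, t⟩ k => by
    have hc := left_ne_zero_of_smul k
    by_cases ha : a = 0
    · subst ha
      rw [Prod.smul_mk, smul_zero] at k ⊢
      rw [π0, π0, pu (ne2 k) ((hF _ (hpt t) t (hpt' t) (right_ne_zero_of_smul (ne2 k)) _).2 ⟨c, rfl⟩)]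
    · rw [π1 _ (mul_ne_zero hc ha), π1 _ ha]
      simp only [Prod.smul_mk, smul_eq_mul, smul_smul]
      rw [mul_inv, mul_right_comm, inv_mul_cancel₀ hc, one_mul]
  have heq : ∀ {u w}, u ≠ 0 → w ≠ 0 → (π u = π w ↔ ∃ c : F, c • u = w) := fun {u w} hu hw =>
    ⟨fun e => by
      obtain ⟨a, s⟩ := u
      obtain ⟨b, t⟩ := w
      by_cases ha : a = 0 <;> by_cases hb : b = 0
      · subst ha hb
        rw [π0, π0] at e
        obtain ⟨c, rfl⟩ := (hF _ (hpt s) s (hpt' s) (ne2 hu) t).1 (e ▸ hpt' t)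
        exact ⟨c, by simp⟩
      · subst ha; rw [π0, π1 _ hb] at e; exact absurd (e ▸ hpt s) (hoff _)
      · subst hb; rw [π0, π1 _ ha] at e; exact absurd (e ▸ hpt t) (hoff _)
      · rw [π1 _ ha, π1 _ hb] at e
        refine ⟨b * a⁻¹, Prod.ext (by simp [ha]) ?_⟩
        simp only [Prod.smul_mk, mul_smul, hinj _ _ e, smul_inv_smul₀ hb],
    fun ⟨c, e⟩ => by rw [← e, hsc c u (e ▸ hw)]⟩
  have L1 : ∀ t m, t ≠ 0 → ∀ z, Col V (pt t) (val m • o) z ↔ z = pt t ∨ ∃ c : F, z = val (c • t + m) • o :=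
    fun t m t0 z => ⟨fun k => by
      refine or_iff_not_imp_left.2 fun hz => ?_
      obtain ⟨s, hs, hf, e⟩ := h.transT hH (hpt t) (hoff m) (Ne.symm hz) k
      obtain ⟨s, rfl⟩ := (vT s).1 ⟨⟨_, hpt t, hs⟩, hf⟩
      obtain ⟨c, rfl⟩ := (hF _ (hpt t) t (hpt' t) t0 s).1 hs
      exact ⟨c, by rw [va, mul_smul, e]⟩, by
      rintro (rfl | ⟨c, rfl⟩)
      · exact h.col_left
      · rw [va, mul_smul]; exact h.col_V ((hF _ (hpt t) t (hpt' t) t0 _).2 ⟨c, rfl⟩) col_right⟩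
  have L2 : ∀ s t, s ≠ 0 → t ≠ 0 → pt s ≠ pt t → ∀ z,
      Col V (pt s) (pt t) z ↔ ∃ a b : F, a • s + b • t ≠ 0 ∧ pt (a • s + b • t) = z := fun s t s0 t0 hne z =>
    ⟨fun k => by
      by_cases hz : pt s = z
      · exact ⟨1, 0, by simpa using s0, by simpa using hz⟩
      obtain ⟨v, hv, rfl⟩ := h.trans hne hz k
      obtain ⟨r, e⟩ := (vT _).1 (mul_mem (h.TT_conj hH (hpt s) hv (vm t)) (inv_mem (vm t)))
      obtain ⟨c, rfl⟩ := (hF _ (hpt s) s (hpt' s) s0 r).1 (e ▸ h.TT_cm hH (hpt s) hv (vm t))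
      have e1 : val (c • s + (1 : F) • t) = v * val t * v⁻¹ := by rw [one_smul, va, e, inv_mul_cancel_right]
      have e2 : c • s + (1 : F) • t ≠ 0 := fun k => v1 t0 (by rw [k, v0] at e1; simpa using e1.symm)
      exact ⟨c, 1, e2, pu e2 (e1 ▸ h.eqv v _ _ (hpt' t))⟩, by
      rintro ⟨a, b, k, rfl⟩
      have ha := (hF _ (hpt s) s (hpt' s) s0 _).2 ⟨a, rfl⟩
      have hb := (hF _ (hpt t) t (hpt' t) t0 _).2 ⟨b, rfl⟩
      by_cases b0 : b • t = 0
      · rw [b0, add_zero] at k ⊢; rw [pu k ha]; exact h.col_left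
      obtain ⟨v, hv, e⟩ := h.surT hH (hpt s) hne hb (v1 b0) (vm _).2 ha (vm _).2
      rw [pu k (y := v • pt t) (by rw [va, ← e, inv_mul_cancel_right]; exact h.eqv v _ _ hb)]
      exact h.col_V hv col_right⟩
  have L3 : ∀ {u w}, u.1 ≠ 0 → w ≠ 0 → π u ≠ π w → ∀ z,
      Col V (π u) (π w) z ↔ ∃ a b : F, a • u + b • w ≠ 0 ∧ π (a • u + b • w) = z := fun {u w} hu hw hne z => by
    have hu0 : u ≠ 0 := fun e => hu (by rw [e]; rfl)
    obtain ⟨t, ht⟩ : ∃ t, t = w.2 - (w.1 * u.1⁻¹) • u.2 := ⟨_, rfl⟩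
    have e1 : ((0 : F), t) = (-(w.1 * u.1⁻¹)) • u + (1 : F) • w := Prod.ext (by simp [hu]) (by simp [ht]; abel)
    have t0 : t ≠ 0 := fun e => hne ((heq hu0 hw).2 ⟨w.1 * u.1⁻¹, by
      rw [e, neg_smul, one_smul, neg_add_eq_sub] at e1; exact (sub_eq_zero.1 e1.symm).symm⟩)
    have key : ∀ z, Col V (pt t) (π u) z ↔ ∃ a b : F, a • u + b • w ≠ 0 ∧ π (a • u + b • w) = z := fun z => by
      rw [π1 u hu, L1 t _ t0]
      constructor
      · rintro (rfl | ⟨c, rfl⟩)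
        · exact ⟨_, _, fun e => t0 (congrArg Prod.snd (e1.trans e)), by rw [← e1, π0]⟩
        · have e2 : (u.1⁻¹ - c * (w.1 * u.1⁻¹)) • u + c • w = (1, c • t + u.1⁻¹ • u.2) :=
            Prod.ext (by simp; field_simp; ring) (by simp [ht]; module)
          exact ⟨_, _, fun e => one_ne_zero (congrArg Prod.fst (e2.symm.trans e)), by rw [e2, π1 _ one_ne_zero]; simp⟩
      · rintro ⟨a, b, k, rfl⟩
        by_cases k1 : (a • u + b • w).1 = 0
        · have e2 : a • u + b • w = b • ((0 : F), t) := by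
            have : a = -(b * w.1 * u.1⁻¹) := by
              rw [Prod.fst_add, Prod.smul_fst, Prod.smul_fst, smul_eq_mul, smul_eq_mul] at k1
              field_simp; linear_combination k1
            rw [e1, this]; module
          rw [e2] at k ⊢
          exact Or.inl ((hsc _ _ k).trans (π0 t))
        · refine Or.inr ⟨(a • u + b • w).1⁻¹ * b, ?_⟩
          rw [π1 _ k1, ht]
          congr 2
          have : u.1⁻¹ = (a • u + b • w).1⁻¹ * (a + b * (w.1 * u.1⁻¹)) := by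
            rw [eq_inv_mul_iff_mul_eq₀ k1]; simp; field_simp
          nth_rw 2 [this]
          simp only [Prod.snd_add, Prod.smul_snd]; module
    have h1 : pt t ≠ π u := fun e => hoff _ (π1 u hu ▸ e ▸ hpt t)
    rw [← key, h.col_iff h1 hne col_right ((key _).2 ⟨0, 1, by simpa using hw, by simp⟩)]
  refine ⟨F, inferInstance, inferInstance, F × M, inferInstance, inferInstance, inferInstance, π, fun x => ?_, heq,
    fun {u w} hu hw hne z => ?_⟩
  · by_cases hx : x ∈ H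
    · obtain ⟨a, ha, h1, hf⟩ := h.exT hH hx
      obtain ⟨t, rfl⟩ := (vT a).1 ⟨⟨x, hx, ha⟩, hf⟩
      have t0 : t ≠ 0 := fun e => h1 (e ▸ v0)
      exact ⟨(0, t), fun e => t0 (congrArg Prod.snd e), (π0 t).trans (pu t0 ha)⟩
    · obtain ⟨a, ha, e⟩ := h.TT_trans hH ho hx
      obtain ⟨t, rfl⟩ := (vT a).1 ha
      exact ⟨(1, t), fun e => one_ne_zero (congrArg Prod.fst e), by rw [π1 _ one_ne_zero, ← e]; simp⟩
  by_cases h1 : u.1 = 0
  · by_cases h2 : w.1 = 0
    · obtain ⟨s, rfl⟩ : ∃ s, u = (0, s) := ⟨u.2, Prod.ext h1 rfl⟩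
      obtain ⟨t, rfl⟩ : ∃ s, w = (0, s) := ⟨w.2, Prod.ext h2 rfl⟩
      have e : ∀ a b : F, a • ((0 : F), s) + b • ((0 : F), t) = (0, a • s + b • t) := fun a b => by simp
      rw [π0, π0] at hne
      simp only [e, π0]
      rw [L2 s t (ne2 hu) (ne2 hw) hne]
      simp only [ne_eq, Prod.mk_eq_zero, true_and]
    · rw [h.col_comm hne, L3 h2 hu hne.symm]
      exact ⟨fun ⟨a, b, k⟩ => ⟨b, a, by rwa [add_comm]⟩, fun ⟨a, b, k⟩ => ⟨b, a, by rwa [add_comm]⟩⟩
  · exact L3 h1 hw hne z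

omit hH in
theorem exists_crd : ∃ (F : Type) (_ : Field F) (_ : Fintype F) (n : ℕ) (π : (Fin n → F) → X), Crd V F π := by
  obtain ⟨x, y, -, a, ha, h1, -⟩ := h.nsr
  obtain ⟨F, _, _, W, _, _, _, π, hc⟩ := h.exists_crd0 (h.hyp_fix ha h1)
  exact ⟨F, inferInstance, inferInstance, _, _, hc.map (Module.finBasis F W).equivFun.symm⟩

end OA

end Cfsg.Lib.PG
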