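import Mathlib

/-! O'Nan's theorem on abelian normal subgroups of point stabilisers: the linear space. -/

set_option autoImplicit false
set_option linter.unusedSectionVars false

namespace Cfsg.Lib.PG

open Subgroup MulAction

variable {G X : Type*} [Group G] [MulAction G X]

theorem exists_cent [Finite G] {p : ℕ} [hp : Fact p.Prime] {A B : Subgroup G} (hA : ∀ a ∈ A, a ^ p = 1)
    (hB : ∀ b ∈ B, b ^ p = 1) (hn : ∀ a ∈ A, ∀ b ∈ B, a * b * a⁻¹ ∈ B) {b₀ : G} (h0 : b₀ ∈ B) (h1 : b₀ ≠ 1) :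
    ∃ b ∈ B, b ≠ 1 ∧ ∀ a ∈ A, a * b = b * a := by
  let _ : MulAction A B :=
    { smul := fun a b => ⟨a * b * (a : G)⁻¹, hn a a.2 b b.2⟩
      one_smul := fun b => Subtype.ext (by change ((1 : A) : G) * b * ((1 : A) : G)⁻¹ = b; simp)
      mul_smul := fun a a' b => Subtype.ext (by
        change ((a * a' : A) : G) * b * ((a * a' : A) : G)⁻¹ = a * (a' * b * (a' : G)⁻¹) * (a : G)⁻¹
        simp [mul_assoc]) }
  have hP : IsPGroup p A := fun a => ⟨1, Subtype.ext (by simpa using hA a a.2)⟩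
  have hd : p ∣ Nat.card B := by
    rw [← orderOf_eq_prime (hB b₀ h0) h1]; exact B.orderOf_dvd_natCard h0
  obtain ⟨b, hb, hb1⟩ := hP.exists_fixed_point_of_prime_dvd_card_of_fixed_point B hd (a := 1)
    (fun a => Subtype.ext (by change (a : G) * ((1 : B) : G) * (a : G)⁻¹ = ((1 : B) : G); simp))
  refine ⟨b, b.2, fun e => hb1 (Subtype.ext e.symm), fun a ha => ?_⟩
  exact mul_inv_eq_iff_eq_mul.1 (congrArg Subtype.val (hb ⟨a, ha⟩))

theorem dvd_card_of_orbits {K S : Type*} [Group K] [MulAction K S] [Finite S] {q : ℕ}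
    (h : ∀ s : S, (stabilizer K s).index = q) : q ∣ Nat.card S := by
  classical
  have := Fintype.ofFinite (orbitRel.Quotient K S)
  rw [Nat.card_congr (selfEquivSigmaOrbits K S), Nat.card_sigma]
  exact Finset.dvd_sum fun ω _ => by rw [← h ω.out, index_stabilizer]; exact dvd_rfl

theorem card_subgroupOf_of_le' {H K : Subgroup G} (h : H ≤ K) : Nat.card (H.subgroupOf K) = Nat.card H :=
  Nat.card_congr (subgroupOfEquivOfLe h).toEquiv

/-- Two-transitivity. -/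
def Two (G X : Type*) [Group G] [MulAction G X] : Prop :=
  ∀ x y x' y' : X, x ≠ y → x' ≠ y' → ∃ g : G, g • x = x' ∧ g • y = y'

theorem Two.card_eq [Finite G] (h : Two G X) {F : X → X → Subgroup G}
    (hF : ∀ g x y, ∀ n ∈ F x y, g * n * g⁻¹ ∈ F (g • x) (g • y)) {x y x' y' : X} (h1 : x ≠ y) (h2 : x' ≠ y') :
    Nat.card (F x y) = Nat.card (F x' y') := by
  have key : ∀ {x y x' y' : X}, x ≠ y → x' ≠ y' → Nat.card (F x y) ≤ Nat.card (F x' y') := fun h1 h2 => by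
    obtain ⟨g, rfl, rfl⟩ := h _ _ _ _ h1 h2
    exact Nat.card_le_card_of_injective (fun n => ⟨g * n * g⁻¹, hF g _ _ n n.2⟩) fun a b e =>
      Subtype.ext (by simpa using congrArg Subtype.val e)
  exact le_antisymm (key h1 h2) (key h2 h1)

theorem Two.le_of_le [Finite G] (h : Two G X) {F : X → X → Subgroup G}
    (hF : ∀ g x y, ∀ n ∈ F x y, g * n * g⁻¹ ∈ F (g • x) (g • y)) {x y x' y' : X} (h1 : x ≠ y) (h2 : x' ≠ y')
    (hle : F x y ≤ F x' y') : F x' y' ≤ F x y :=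
  (eq_of_le_of_card_ge hle (h.card_eq hF h1 h2).ge).ge

/-- The hypothesis of O'Nan's theorem. -/
structure OA (p : ℕ) (V : X → Subgroup G) : Prop where
  two : Two G X
  faith : ∀ g : G, (∀ x : X, g • x = x) → g = 1
  eqv : ∀ g x, ∀ n ∈ V x, g * n * g⁻¹ ∈ V (g • x)
  fix : ∀ x, ∀ n ∈ V x, n • x = x
  comm : ∀ x, ∀ a ∈ V x, ∀ b ∈ V x, a * b = b * a
  pw : ∀ x, ∀ a ∈ V x, a ^ p = 1
  nsr : ∃ x y, x ≠ y ∧ ∃ a ∈ V x, a ≠ 1 ∧ a • y = y

/-- The stabiliser of `y` in `V x`. -/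
def A (V : X → Subgroup G) (x y : X) : Subgroup G where
  carrier := {a | a ∈ V x ∧ a • y = y}
  one_mem' := ⟨one_mem _, one_smul _ _⟩
  mul_mem' := fun ha hb => ⟨mul_mem ha.1 hb.1, by rw [mul_smul, hb.2, ha.2]⟩
  inv_mem' := fun ha => ⟨inv_mem ha.1, inv_smul_eq_iff.2 ha.2.symm⟩

theorem mem_A {V : X → Subgroup G} {x y : X} {a : G} : a ∈ A V x y ↔ a ∈ V x ∧ a • y = y := Iff.rfl

/-- `z` is on the line through `x` and `y`. -/
def Col (V : X → Subgroup G) (x y z : X) : Prop := ∀ a ∈ V x, a • y = y → a • z = z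

theorem conj_smul (g n : G) (y : X) : (g * n * g⁻¹) • g • y = g • n • y := by simp [mul_smul]

theorem inv_fix {g : G} {y : X} (h : g • y = y) : g⁻¹ • y = y := inv_smul_eq_iff.2 h.symm

namespace OA

variable [Finite G] {p : ℕ} [hp : Fact p.Prime] {V : X → Subgroup G} (h : OA p V) {x y z u w : X} {a b g v : G}
include h

theorem eqv' (ha : a ∈ V x) (hg : g • x = x) : g * a * g⁻¹ ∈ V x := by simpa [hg] using h.eqv g x a ha

theorem eqvA (g : G) (x y : X) : ∀ n ∈ A V x y, g * n * g⁻¹ ∈ A V (g • x) (g • y) :=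
  fun n hn => ⟨h.eqv g x n hn.1, by rw [conj_smul, hn.2]⟩

theorem leA {x' y' : X} (h1 : x ≠ y) (h2 : x' ≠ y') (hle : A V x y ≤ A V x' y') : A V x' y' ≤ A V x y :=
  h.two.le_of_le h.eqvA h1 h2 hle

theorem ti (hxy : x ≠ y) (hx : a ∈ V x) (hy : a ∈ V y) : a = 1 := by
  have hD : ∀ {x y x' y' : X}, x ≠ y → x' ≠ y' → V x ⊓ V y ≤ V x' ⊓ V y' → V x' ⊓ V y' ≤ V x ⊓ V y :=
    fun h1 h2 => h.two.le_of_le (F := fun x y => V x ⊓ V y)
      (fun g x y n hn => ⟨h.eqv g x n hn.1, h.eqv g y n hn.2⟩) h1 h2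
  refine h.faith a fun z => ?_
  by_cases hz : V x ⊓ V y ≤ V z
  · exact h.fix z a (hz ⟨hx, hy⟩)
  have h1 : x ≠ z := fun e => hz (e ▸ inf_le_left)
  have h2 : y ≠ z := fun e => hz (e ▸ inf_le_right)
  by_contra hne
  have key : ∀ {x}, a ∈ V x → V x ⊓ V z ≤ V z ⊓ V (a • z) := fun hx n hn =>
    ⟨hn.2, by simpa [h.comm _ a hx n hn.1] using h.eqv a z n hn.2⟩
  have h3 : V x ⊓ V z ≤ V x ⊓ V y :=
    le_inf inf_le_left ((key hx).trans ((hD h2 (Ne.symm hne) (key hy)).trans inf_le_left))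
  exact hz ((hD h1 hxy h3).trans inf_le_right)

theorem fix_of_comm (hb : b ∈ V y) (h1 : b ≠ 1) (hg : g * b = b * g) : g • y = y := by
  by_contra hne
  exact h1 (h.ti hne (by simpa [hg] using h.eqv g y b hb) hb)

theorem commAB (hxy : x ≠ y) (ha : a ∈ V x) (hay : a • y = y) (hb : b ∈ V y) (hbx : b • x = x) :
    a * b = b * a := by
  have : a * b * a⁻¹ * b⁻¹ = 1 := h.ti hxy
    (by simpa [mul_assoc] using mul_mem ha (h.eqv' (inv_mem ha) hbx)) (mul_mem (h.eqv' hb hay) (inv_mem hb))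
  rw [mul_inv_eq_one, mul_inv_eq_iff_eq_mul] at this; exact this

theorem ex_A (hxy : x ≠ y) : ∃ a ∈ V x, a ≠ 1 ∧ a • y = y := by
  obtain ⟨x', y', h1, a, ha, ha1, hay⟩ := h.nsr
  obtain ⟨g, rfl, rfl⟩ := h.two _ _ _ _ h1 hxy
  exact ⟨_, h.eqv g _ a ha, by simpa using ha1, by rw [conj_smul, hay]⟩

theorem ex_move (hxy : x ≠ y) : ∃ v ∈ V x, v • y ≠ y := by
  obtain ⟨a, ha, ha1, -⟩ := h.ex_A hxy
  obtain ⟨z, hz⟩ := not_forall.1 fun e => ha1 (h.faith a e)
  obtain ⟨g, e, rfl⟩ := h.two x z x y (fun e => hz (e ▸ h.fix x a ha)) hxy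
  exact ⟨_, h.eqv' ha e, by rw [conj_smul]; simpa using hz⟩

theorem smul_ne (hv : v ∈ V x) (hxy : x ≠ y) : x ≠ v • y := fun e =>
  hxy (by rw [← inv_fix (h.fix x v hv), e, inv_smul_smul])

theorem smul_comm' (ha : a ∈ V x) (hv : v ∈ V x) (y : X) : a • v • y = v • a • y := by
  rw [← mul_smul, h.comm x a ha v hv, mul_smul]

theorem fixB (hxy : x ≠ y) (hv : v ∈ V x) (hb : b ∈ V y) (hbx : b • x = x) : b • v • y = v • y := by
  by_cases h0 : v • y = y
  · rw [h0, h.fix y b hb]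
  obtain ⟨c0, hc0, hc1, hc2⟩ := h.ex_A (Ne.symm h0)
  obtain ⟨c, hc, hc1, hca⟩ := exists_cent (p := p) (A := A V x y) (B := A V y (v • y)) (fun a ha => h.pw x a ha.1)
    (fun a ha => h.pw y a ha.1) (fun a ha b hb => by
      have := h.eqvA a _ _ b hb
      rwa [h.smul_comm' ha.1 hv, ha.2] at this) (b₀ := c0) ⟨hc0, hc2⟩ hc1
  obtain ⟨a0, ha0, ha1, ha2⟩ := h.ex_A hxy
  have hcx : c • x = x := h.fix_of_comm ha0 ha1 (hca a0 ⟨ha0, ha2⟩).symm
  have hn : v⁻¹ * (c * v * c⁻¹) ∈ V x := mul_mem (inv_mem hv) (h.eqv' hv hcx)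
  have hny : (v⁻¹ * (c * v * c⁻¹)) • y = y := by
    rw [mul_smul, mul_smul, mul_smul, inv_fix (h.fix y c hc.1), hc.2, inv_smul_smul]
  have hm : v⁻¹ * (b * v * b⁻¹) ∈ V x := mul_mem (inv_mem hv) (h.eqv' hv hbx)
  obtain ⟨n, e⟩ : ∃ n, n = v⁻¹ * (c * v * c⁻¹) := ⟨_, rfl⟩
  rw [← e] at hn hny
  have e1 : c * v * c⁻¹ = v * n := by rw [e]; group
  have e2 := h.commAB hxy hn hny hb hbx
  have e3 := h.comm y b hb c hc.1
  have e4 := h.comm x _ hm n hn
  have : (v⁻¹ * (b * v * b⁻¹)) • y = y := h.fix_of_comm hc.1 hc1 (by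
    calc v⁻¹ * (b * v * b⁻¹) * c = n⁻¹ * (n * (v⁻¹ * (b * v * b⁻¹))) * c := by group
      _ = n⁻¹ * (v⁻¹ * b * v * (b⁻¹ * (n * b)) * b⁻¹) * c := by rw [← e4]; group
      _ = (v * n)⁻¹ * b * (v * n) * b⁻¹ * c := by rw [e2]; group
      _ = c * v⁻¹ * c⁻¹ * (b * c) * v * (b * c)⁻¹ * c := by rw [← e1]; group
      _ = c * v⁻¹ * b * v * b⁻¹ * c⁻¹ * c := by rw [e3]; group
      _ = c * (v⁻¹ * (b * v * b⁻¹)) := by group)
  rwa [mul_smul, inv_smul_eq_iff, mul_smul, mul_smul, inv_fix (h.fix y b hb)] at this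

theorem surj_comm (hxy : x ≠ y) (hv : v ∈ V y) (hvx : v • x ≠ x) (hb : b ∈ V y) (hbx : b • x = x) :
    ∃ a ∈ V x, a • y = y ∧ a * v * a⁻¹ * v⁻¹ = b := by
  let f : A V x y → A V y x := fun a => ⟨a * v * (a : G)⁻¹ * v⁻¹, mul_mem (h.eqv' hv a.2.2) (inv_mem hv), by
    rw [mul_smul, mul_smul, mul_smul, h.fixB hxy.symm (inv_mem hv) (inv_mem a.2.1) (inv_fix a.2.2),
      smul_inv_smul, h.fix x a a.2.1]⟩
  have hf : Function.Injective f := fun a a' e => by
    have e1 : (a : G) * v * (a : G)⁻¹ = a' * v * (a' : G)⁻¹ := mul_right_cancel (congrArg Subtype.val e)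
    by_contra hne
    refine hvx (h.fix_of_comm (mul_mem (inv_mem a'.2.1) a.2.1) (fun e => hne (Subtype.ext (inv_mul_eq_one.1 e).symm)) ?_)
    calc v * ((a' : G)⁻¹ * a) = (a' : G)⁻¹ * (a' * v * (a' : G)⁻¹) * a := by group
      _ = _ := by rw [← e1]; group
  obtain ⟨a, e⟩ := (hf.bijective_of_nat_card_le (h.two.card_eq h.eqvA hxy hxy.symm).ge).2 ⟨b, hb, hbx⟩
  exact ⟨a, a.2.1, a.2.2, congrArg Subtype.val e⟩

theorem col_left : Col V x y x := fun a ha _ => h.fix x a ha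

omit h in
theorem col_right : Col V x y y := fun _ _ e => e

theorem col_symm (hxy : x ≠ y) (hz : Col V x y z) : Col V y x z := by
  by_cases h1 : y = z
  · exact h1 ▸ h.col_left
  have : A V y z ≤ A V y x := fun n hn => ⟨hn.1, by
    by_contra hne
    refine hne (h.leA hxy.symm h1 (fun b hb => ⟨hb.1, ?_⟩) hn).2
    obtain ⟨a, ha, hay, rfl⟩ := h.surj_comm hxy hn.1 hne hb.1 hb.2
    rw [mul_smul, mul_smul, mul_smul, inv_fix hn.2, inv_fix (hz a ha hay), hn.2, hz a ha hay]⟩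
  exact fun b hb hbx => (h.leA h1 hxy.symm this ⟨hb, hbx⟩).2

theorem col_swap (hxy : x ≠ y) (hxz : x ≠ z) (hz : Col V x y z) : Col V x z y :=
  fun _ ha haz => (h.leA hxy hxz (fun b hb => ⟨hb.1, hz b hb.1 hb.2⟩) ⟨ha, haz⟩).2

theorem col_iff1 (hxy : x ≠ y) (hxu : x ≠ u) (hu : Col V x y u) : Col V x u z ↔ Col V x y z :=
  ⟨fun hz a ha hay => hz a ha (hu a ha hay), fun hz a ha hau => hz a ha (h.col_swap hxy hxu hu a ha hau)⟩

theorem col_comm (hxy : x ≠ y) : Col V x y z ↔ Col V y x z := ⟨h.col_symm hxy, h.col_symm hxy.symm⟩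

theorem col_iff (hxy : x ≠ y) (huw : u ≠ w) (hu : Col V x y u) (hw : Col V x y w) : Col V u w z ↔ Col V x y z := by
  by_cases h1 : x = u
  · subst h1; exact h.col_iff1 hxy huw hw
  rw [← h.col_iff1 hxy h1 hu, h.col_comm h1] at hw ⊢
  exact h.col_iff1 (Ne.symm h1) huw hw

theorem col_smul (g : G) (hz : Col V x y z) : Col V (g • x) (g • y) (g • z) := fun a ha hay => by
  have := hz _ (by simpa using h.eqv g⁻¹ _ a ha) (by rw [mul_smul, mul_smul, hay, inv_smul_smul])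
  rwa [mul_smul, mul_smul, inv_smul_eq_iff] at this

theorem col_V (hv : v ∈ V x) (hz : Col V x y z) : Col V x y (v • z) := fun a ha hay => by
  rw [h.smul_comm' ha hv, hz a ha hay]

theorem ex_ncol (hxy : x ≠ y) : ∃ z, ¬ Col V x y z := by
  obtain ⟨a, ha, ha1, hay⟩ := h.ex_A hxy
  obtain ⟨z, hz⟩ := not_forall.1 fun e => ha1 (h.faith a e)
  exact ⟨z, fun e => hz (e a ha hay)⟩

theorem fix_line (ha : a ∈ V y) (huw : u ≠ w) (hu : a • u = u) (hw : a • w = w) (hz : Col V u w z) : a • z = z := by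
  by_cases hy : Col V u w y
  · by_cases h1 : y = u
    · subst h1; exact hz a ha hw
    · exact (h.col_iff huw h1 hy h.col_left).2 hz a ha hu
  have h1 : y ≠ z := fun e => hy (e ▸ hz)
  by_contra hne
  have h2 : Col V u w (a • z) := by simpa [hu, hw] using h.col_smul a hz
  exact hy ((h.col_iff huw hne h2 hz).1 ((h.col_iff h1 hne (h.col_V ha col_right) col_right).2 h.col_left))

theorem ne_of_ncol (hn : ¬ Col V x w y) (hu : Col V x w u) : y ≠ u := fun e => hn (e ▸ hu)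

theorem ncol_rot (hxw : x ≠ w) (hn : ¬ Col V x w y) : ¬ Col V y x w := fun e =>
  hn ((h.col_iff (h.ne_of_ncol hn h.col_left) hxw col_right e).2 h.col_left)

theorem card_V (x y : X) : Nat.card (V x) = Nat.card (V y) := by
  obtain ⟨x', y', h1, -⟩ := h.nsr
  have : Nontrivial X := ⟨_, _, h1⟩
  obtain ⟨z, hz⟩ := exists_ne x
  obtain ⟨w, hw⟩ := exists_ne y
  exact h.two.card_eq (F := fun x _ => V x) (fun g x _ => h.eqv g x) hz.symm hw.symm

omit h in
theorem card_A_mul (x y : X) : Nat.card (A V x y) * (stabilizer (V x) y).index = Nat.card (V x) := by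
  rw [← (stabilizer (V x) y).card_mul_index]
  congr 1
  exact Nat.card_congr ⟨fun a => ⟨⟨a, a.2.1⟩, a.2.2⟩, fun a => ⟨a, a.1.2, a.2⟩, fun _ => rfl, fun _ => rfl⟩

theorem index_eq {x' y' : X} (h1 : x ≠ y) (h2 : x' ≠ y') :
    (stabilizer (V x) y).index = (stabilizer (V x') y').index := by
  have e1 := card_A_mul (V := V) x y
  rw [h.card_V x x', ← card_A_mul x' y', h.two.card_eq h.eqvA h1 h2] at e1
  exact Nat.eq_of_mul_eq_mul_left Nat.card_pos e1

omit h in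
theorem arith {j k t q : ℕ} (hj : 2 ≤ j) (h1 : q ∣ k) (hk : 0 < k) (h2 : t ∣ q)
    (e : 1 + (k + 1) * (j - 1) = j * t) : j = q ∧ t = q ∧ k = q := by
  obtain ⟨j, rfl⟩ : ∃ i, j = i + 1 := ⟨j - 1, by omega⟩
  obtain ⟨t, rfl⟩ : ∃ i, t = i + 1 := ⟨t - 1, by
    rcases t with _ | t
    · simp at e
    · simp⟩
  have e1 : k * j = (j + 1) * t := by simp only [add_tsub_cancel_right] at e; nlinarith
  obtain ⟨r, rfl⟩ : j + 1 ∣ k := (Nat.Coprime.dvd_of_dvd_mul_right (by simp) ⟨t, e1⟩)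
  have e2 : r * j = t := Nat.eq_of_mul_eq_mul_left (Nat.succ_pos j) (by rw [Nat.succ_eq_add_one, ← e1]; ring)
  subst e2
  have h3 : r * j + 1 ∣ j + 1 := Nat.Coprime.dvd_of_dvd_mul_right (by simp) (h2.trans h1)
  have h4 := Nat.le_of_dvd (Nat.succ_pos j) h3
  have h5 : r = 1 := by
    rcases r with _ | _ | r
    · simp at hk
    · rfl
    · nlinarith
  subst h5
  have := Nat.dvd_antisymm (by simpa using h2) (by simpa using h1 : q ∣ j + 1)
  omega

theorem count [Finite X] (hxw : x ≠ w) (hn : ¬ Col V x w y) :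
    (∀ a ∈ V y, ∃ u, Col V x w u ∧ a • u = u) ∧ (∀ u, x ≠ u → Col V x w u → ∃ v ∈ V x, v • w = u) ∧
      ∀ v ∈ V y, ∃ a ∈ V y, a • x = x ∧ a • w = v • w := by
  classical
  have := Fintype.ofFinite G
  have := Fintype.ofFinite X
  let U : Subgroup G :=
    { carrier := {a | a ∈ V y ∧ ∃ u, Col V x w u ∧ a • u = u}
      one_mem' := ⟨one_mem _, x, h.col_left, one_smul _ _⟩
      inv_mem' := fun ⟨ha, u, hu, e⟩ => ⟨inv_mem ha, u, hu, inv_fix e⟩
      mul_mem' := fun {a b} ⟨ha, u, hu, e⟩ ⟨hb, u', hu', e'⟩ => ⟨mul_mem ha hb, by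
        by_cases h0 : b • u = u
        · exact ⟨u, hu, by rw [mul_smul, h0, e]⟩
        obtain ⟨c, hc, -, e1⟩ := h.surj_comm (h.ne_of_ncol hn hu).symm hb h0 ha e
        refine ⟨c • u', (h.col_iff hxw (fun e2 : u = u' => h0 (by rw [e2, e'])) hu hu').1 (h.col_V hc col_right), ?_⟩
        rw [← e1, inv_mul_cancel_right, conj_smul, e']⟩ }
  have hyx := h.ne_of_ncol hn h.col_left
  have hyw := h.ne_of_ncol hn col_right
  let I := A V y x ⊓ A V y w
  have hI : ∀ u, Col V x w u → I ≤ A V y u := fun u hu a ha => ⟨ha.1.1, h.fix_line ha.1.1 hxw ha.1.2 ha.2.2 hu⟩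
  have hI' : ∀ u u', Col V x w u → Col V x w u' → u ≠ u' → ∀ a, a ∈ A V y u → a ∈ A V y u' → a ∈ I :=
    fun u u' hu hu' hne a ha ha' =>
      ⟨⟨ha.1, h.fix_line ha.1 hne ha.2 ha'.2 ((h.col_iff hxw hne hu hu').2 h.col_left)⟩,
        ⟨ha.1, h.fix_line ha.1 hne ha.2 ha'.2 ((h.col_iff hxw hne hu hu').2 col_right)⟩⟩
  let cs : Subgroup G → Finset G := fun S => Finset.univ.filter (· ∈ S)
  have hcs : ∀ S, (cs S).card = Nat.card S := fun S => by
    rw [Nat.card_eq_fintype_card, Fintype.card_subtype]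
  have hsd : ∀ S, I ≤ S → (cs S \ cs I).card = Nat.card S - Nat.card I := fun S hS => by
    rw [Finset.card_sdiff_of_subset (fun a ha => by simpa [cs] using hS (by simpa [cs] using ha)), hcs, hcs]
  let l : Finset X := Finset.univ.filter (Col V x w ·)
  have e1 : Nat.card U - Nat.card I = l.card * (Nat.card (A V y x) - Nat.card I) := by
    rw [← hsd U (fun a ha => ⟨ha.1.1, x, h.col_left, ha.1.2⟩),
      show cs U \ cs I = l.biUnion fun u => cs (A V y u) \ cs I from Finset.ext fun a => by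
        simp only [cs, l, Finset.mem_sdiff, Finset.mem_filter, Finset.mem_univ, true_and, Finset.mem_biUnion]
        exact ⟨fun ⟨⟨h1, u, hu, e⟩, h2⟩ => ⟨u, hu, ⟨h1, e⟩, h2⟩, fun ⟨u, hu, ⟨h1, e⟩, h2⟩ => ⟨⟨h1, u, hu, e⟩, h2⟩⟩,
      Finset.card_biUnion, Finset.sum_const_nat]
    · intro u hu
      have hu : Col V x w u := by simpa [l] using hu
      rw [hsd _ (hI u hu), h.two.card_eq h.eqvA (h.ne_of_ncol hn hu) hyx]
    · intro u hu u' hu' hne
      refine Finset.disjoint_left.2 fun a ha ha' => ?_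
      simp only [cs, Finset.mem_sdiff, Finset.mem_filter, Finset.mem_univ, true_and] at ha ha'
      exact ha.2 (hI' u u' (by simpa [l] using hu) (by simpa [l] using hu') hne a ha.1 ha'.1)
  let S : SubMulAction (V x) X := ⟨{u | x ≠ u ∧ Col V x w u}, fun v _ hu => ⟨h.smul_ne v.2 hu.1, h.col_V v.2 hu.2⟩⟩
  have e2 : Nat.card S + 1 = l.card := by
    rw [← Finset.card_erase_add_one (a := x) (by simpa [l] using h.col_left), Nat.card_eq_fintype_card,
      Fintype.card_subtype]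
    congr 2; ext u
    simp only [l, Finset.mem_filter, Finset.mem_univ, true_and, Finset.mem_erase]
    exact ⟨fun e => ⟨e.1.symm, e.2⟩, fun e => ⟨e.1.symm, e.2⟩⟩
  obtain ⟨q, hq⟩ : ∃ q, q = (stabilizer (V y) x).index := ⟨_, rfl⟩
  have e3 : q ∣ Nat.card S := dvd_card_of_orbits (K := V x) fun s => by
    rw [hq, ← h.index_eq s.2.1 hyx]; congr 1; ext v; simp [Subtype.ext_iff]
  have hAU : A V y x ≤ U := fun a ha => ⟨ha.1, x, h.col_left, ha.2⟩
  have e4 : (A V y x).relIndex (V y) = q := by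
    rw [hq, relIndex]; congr 1; ext v; exact ⟨fun e => e.2, fun e => ⟨v.2, e⟩⟩
  have e5 := relIndex_mul_relIndex (A V y x) U (V y) hAU fun a ha => ha.1
  have e6 : Nat.card (A V y x) * (A V y x).relIndex U = Nat.card U := by
    rw [← card_subgroupOf_of_le' hAU]; exact card_mul_index _
  have e7 : Nat.card I * I.relIndex (A V y x) = Nat.card (A V y x) := by
    rw [← card_subgroupOf_of_le' (inf_le_left : I ≤ _)]; exact card_mul_index _
  have e8 : 2 ≤ I.relIndex (A V y x) := by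
    have h1 : I.relIndex (A V y x) ≠ 1 := fun e => h.ncol_rot hxw hn fun a ha hax => (relIndex_eq_one.1 e ⟨ha, hax⟩).2.2
    have h2 : I.relIndex (A V y x) ≠ 0 := index_ne_zero_of_finite
    omega
  have hi : 0 < Nat.card I := Nat.card_pos
  have : Nonempty S := ⟨⟨w, hxw, col_right⟩⟩
  obtain ⟨r1, r2, r3⟩ := arith e8 e3 Nat.card_pos (Dvd.intro _ (e5.trans e4)) (by
    have h1 : Nat.card I ≤ Nat.card U := card_le_of_le (inf_le_left.trans hAU)
    rw [← e6, ← e7, ← e2] at e1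
    rw [← e6, ← e7] at h1
    refine Nat.eq_of_mul_eq_mul_left hi ?_
    rw [← mul_assoc, ← Nat.sub_add_cancel h1, e1, mul_add, mul_one, add_comm, mul_left_comm, Nat.mul_sub_one])
  refine ⟨fun a ha => ?_, fun u h1 h2 => ?_, fun v hv => ?_⟩
  · rw [r2, e4] at e5
    have hq0 : 0 < q := by omega
    exact (relIndex_eq_one.1 (Nat.eq_of_mul_eq_mul_left hq0 (e5.trans (mul_one q).symm)) ha).2
  · have : orbit (V x) w = S := Set.eq_of_subset_of_ncard_le (by rintro _ ⟨v, rfl⟩; exact S.smul_mem v ⟨hxw, col_right⟩)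
      (by rw [← index_stabilizer, h.index_eq hxw hyx, ← hq, ← r3]; rfl)
    obtain ⟨v, hv⟩ : u ∈ orbit (V x) w := this ▸ ⟨h1, h2⟩
    exact ⟨v, v.2, hv⟩
  · have : orbit (A V y x) w = orbit (V y) w := Set.eq_of_subset_of_ncard_le
      (by rintro _ ⟨a, rfl⟩; exact ⟨⟨a, a.2.1⟩, rfl⟩) (by
        rw [← index_stabilizer, ← index_stabilizer, h.index_eq hyw hyx, ← hq, ← r1, relIndex]
        refine le_of_eq (congrArg index ?_); ext a; exact ⟨fun e => e.2.2, fun e => ⟨a.2, a.2.1, e⟩⟩)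
    obtain ⟨a, ha⟩ : v • w ∈ orbit (A V y x) w := this ▸ ⟨⟨v, hv⟩, rfl⟩
    exact ⟨a, a.2.1, a.2.2, ha⟩

end OA

end Cfsg.Lib.PG
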