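import Cfsg.Agent.Lib.PG.Core

/-! Symmetric designs with a 2-transitive group: points and blocks have the same permutation character. -/

set_option autoImplicit false
set_option linter.unusedSectionVars false

namespace Cfsg.Lib.PG

open Subgroup MulAction

variable {G P L : Type*} [Group G] [MulAction G P] [MulAction G L] [Finite P] [Finite L]

theorem trace_funLeft [Fintype P] (g : G) :
    LinearMap.trace ℚ _ (LinearMap.funLeft ℚ ℚ (g • · : P → P)) = Nat.card (fixedBy P g) := by
  classical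
  rw [LinearMap.trace_eq_matrix_trace ℚ (Pi.basisFun ℚ P), Matrix.trace, Nat.card_eq_fintype_card, Fintype.card_subtype,
    Finset.card_filter]
  simp [Pi.single_apply]

/-- Brauer's permutation lemma for an invertible incidence matrix. -/
theorem fix_eq_of_inj (I : P → L → Prop) (hI : ∀ (g : G) p l, I (g • p) (g • l) ↔ I p l)
    (hc : Nat.card P = Nat.card L) (hinj : ∀ x : P → ℚ, (∀ l, ∑ᶠ p, Set.indicator {p | I p l} x p = 0) → x = 0) (g : G) :
    Nat.card (fixedBy P g) = Nat.card (fixedBy L g) := by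
  classical
  have := Fintype.ofFinite P
  have := Fintype.ofFinite L
  let φ : (P → ℚ) →ₗ[ℚ] (L → ℚ) := Matrix.toLin' (Matrix.of fun l p => if I p l then 1 else 0)
  have hφ : ∀ x l, φ x l = ∑ p, if I p l then x p else 0 := fun x l => by simp [φ, Matrix.mulVec, dotProduct]
  have h1 : Function.Injective φ := (injective_iff_map_eq_zero φ).2 fun x hx => hinj x fun l => by
    rw [finsum_eq_sum_of_fintype, ← Pi.zero_apply (M := fun _ => ℚ) l, ← hx, hφ]; simp [Set.indicator_apply]
  let e := LinearEquiv.ofInjectiveOfFinrankEq φ h1 (by simpa using hc)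
  have h2 : e.conj (LinearMap.funLeft ℚ ℚ (g • · : P → P)) = LinearMap.funLeft ℚ ℚ (g • · : L → L) := by
    refine LinearMap.ext fun y => ?_
    obtain ⟨x, rfl⟩ := e.surjective y
    rw [LinearEquiv.conj_apply_apply, e.symm_apply_apply]
    funext l
    change φ _ l = φ x (g • l)
    rw [hφ, hφ, ← Equiv.sum_comp (toPerm g) fun p => if I p (g • l) then x p else 0]
    simp [hI]
  have := LinearMap.trace_conj' (LinearMap.funLeft ℚ ℚ (g • · : P → P)) e
  rw [h2, trace_funLeft, trace_funLeft] at this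
  exact_mod_cast this.symm

theorem Two.fix_eq [Finite G] (h : Two G P) (I : P → L → Prop) (hI : ∀ (g : G) p l, I (g • p) (g • l) ↔ I p l)
    (hc : Nat.card P = Nat.card L) (h1 : ∀ p, ∃ l, I p l) (h2 : ∀ p, ∃ l, ¬ I p l ∧ ∃ p', I p' l) (g : G) :
    Nat.card (fixedBy P g) = Nat.card (fixedBy L g) := by
  classical
  have := Fintype.ofFinite P
  have := Fintype.ofFinite G
  refine fix_eq_of_inj I hI hc (fun x hx => funext fun p0 => ?_) g
  have hx : ∀ l, ∑ p, (if I p l then x p else 0) = 0 := fun l => by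
    simpa [finsum_eq_sum_of_fintype, Set.indicator_apply] using hx l
  let y : P → ℚ := fun p => ∑ g : stabilizer G p0, x (g • p)
  have hy : ∀ l, ∑ p, (if I p l then y p else 0) = 0 := fun l => by
    calc _ = ∑ p, ∑ g : stabilizer G p0, if I p l then x (g • p) else 0 :=
          Finset.sum_congr rfl fun p _ => by split_ifs <;> simp [y]
      _ = 0 := by
        rw [Finset.sum_comm]
        refine Finset.sum_eq_zero fun g _ => ?_
        refine Eq.trans ?_ (hx ((g : G) • l))
        rw [← Equiv.sum_comp (toPerm (g : G)) fun p => if I p ((g : G) • l) then x p else 0]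
        simp [hI, Subgroup.smul_def]
  have hy2 : ∀ p p', p0 ≠ p → p0 ≠ p' → y p = y p' := fun p p' k k' => by
    obtain ⟨c, e, rfl⟩ := h p0 p p0 p' k k'
    exact (Equiv.sum_comp (Equiv.mulRight (⟨c, e⟩ : stabilizer G p0)) fun g => x (g • p)).symm.trans
      (by simp [y, mul_smul, Subgroup.smul_def])
  have hy3 : ∀ p, p0 ≠ p → y p = 0 := fun p k => by
    obtain ⟨l, n0, p', hp'⟩ := h2 p0
    have := hy l
    rw [Finset.sum_congr rfl (g := fun q => if I q l then y p else 0) fun q _ => by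
      split_ifs with hq
      exacts [hy2 q p (fun e => n0 (e ▸ hq)) k, rfl], ← Finset.sum_filter, Finset.sum_const, nsmul_eq_mul,
      mul_eq_zero, Nat.cast_eq_zero, Finset.card_eq_zero] at this
    exact this.resolve_left (Finset.ne_empty_of_mem (a := p') (by simpa using hp'))
  obtain ⟨l, hl⟩ := h1 p0
  have := hy l
  rw [Finset.sum_eq_single p0 (fun q _ k => by rw [hy3 q k.symm, ite_self]) (by simp), if_pos hl] at this
  simp only [y, Subgroup.smul_def, show ∀ g : stabilizer G p0, (g : G) • p0 = p0 from fun g => g.2, Finset.sum_const,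
    nsmul_eq_mul, mul_eq_zero, Nat.cast_eq_zero, Finset.card_univ] at this
  exact this.resolve_left Fintype.card_ne_zero

theorem card_fixedBy_prod (g : G) : Nat.card (fixedBy (P × L) g) = Nat.card (fixedBy P g) * Nat.card (fixedBy L g) := by
  rw [← Nat.card_prod]
  exact Nat.card_congr ⟨fun x => (⟨x.1.1, congrArg Prod.fst x.2⟩, ⟨x.1.2, congrArg Prod.snd x.2⟩),
    fun x => ⟨(x.1, x.2), Prod.ext x.1.2 x.2.2⟩, fun _ => rfl, fun _ => rfl⟩

theorem card_orbits_eq [Finite G] (h : ∀ g : G, Nat.card (fixedBy P g) = Nat.card (fixedBy L g)) :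
    Nat.card (orbitRel.Quotient G P) = Nat.card (orbitRel.Quotient G L) := by
  classical
  have := Fintype.ofFinite G
  have := Fintype.ofFinite P
  have := Fintype.ofFinite L
  have e1 := sum_card_fixedBy_eq_card_orbits_mul_card_group G P
  have e2 := sum_card_fixedBy_eq_card_orbits_mul_card_group G L
  simp only [← Nat.card_eq_fintype_card] at e1 e2
  rw [Finset.sum_congr rfl fun g _ => h g, e2] at e1
  exact (Nat.eq_of_mul_eq_mul_right Nat.card_pos e1).symm

theorem Two.rank [Finite G] (h : Two G P) (hf : ∀ g : G, Nat.card (fixedBy L g) = Nat.card (fixedBy P g) ^ 2)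
    {a b c : L} (h1 : ∀ g : G, g • a ≠ b) (h2 : ∀ g : G, g • a ≠ c) : ∃ g : G, g • b = c := by
  classical
  have e := card_orbits_eq (G := G) (P := L) (L := P × P) fun g => by rw [hf, card_fixedBy_prod, sq]
  have h3 : Nat.card (orbitRel.Quotient G (P × P)) ≤ Nat.card Bool := by
    refine Nat.card_le_card_of_injective (Quotient.lift (fun x : P × P => decide (x.1 = x.2)) ?_) ?_
    · rintro _ x ⟨g, rfl⟩; simp
    · rintro ⟨x, y⟩ ⟨x', y'⟩ e
      have e : x = y ↔ x' = y' := by simpa [Quot.lift] using e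
      refine Quotient.sound ?_
      by_cases k : x = y
      · obtain rfl := e.1 k
        subst k
        by_cases k1 : x = x'
        · exact k1 ▸ ⟨1, one_smul _ _⟩
        · obtain ⟨g, e, -⟩ := h x' x x x' (Ne.symm k1) k1
          exact ⟨g, Prod.ext e e⟩
      · obtain ⟨g, e1, e2⟩ := h x' y' x y (fun k1 => k (e.2 k1)) k
        exact ⟨g, Prod.ext e1 e2⟩
  by_contra h4
  have := Fintype.ofFinite (orbitRel.Quotient G L)
  have : 2 < Nat.card (orbitRel.Quotient G L) := by
    rw [Nat.card_eq_fintype_card, Fintype.two_lt_card_iff]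
    exact ⟨⟦b⟧, ⟦a⟧, ⟦c⟧, fun e => let ⟨g, k⟩ := Quotient.exact e; h1 g k,
      fun e => let ⟨g, k⟩ := Quotient.exact e.symm; h4 ⟨g, k⟩, fun e => let ⟨g, k⟩ := Quotient.exact e.symm; h2 g k⟩
  simp at h3; omega

theorem Two.dual [Finite G] (h : Two G P) (hf : ∀ g : G, Nat.card (fixedBy P g) = Nat.card (fixedBy L g)) : Two G L :=
  fun x y x' y' k k' => by
    obtain ⟨g, e⟩ := h.rank (L := L × L) (fun g => by rw [card_fixedBy_prod, ← hf, sq]) (a := (x, x)) (b := (x, y))
      (c := (x', y')) (fun g e => k ((congrArg Prod.fst e).symm.trans (congrArg Prod.snd e)))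
      (fun g e => k' ((congrArg Prod.fst e).symm.trans (congrArg Prod.snd e)))
    exact ⟨g, congrArg Prod.fst e, congrArg Prod.snd e⟩

theorem faith_of_fix_eq (hc : Nat.card P = Nat.card L) {g : G} (hf : Nat.card (fixedBy P g) = Nat.card (fixedBy L g))
    (h : ∀ l : L, g • l = l) (p : P) : g • p = p := by
  have : fixedBy L g = Set.univ := Set.eq_univ_of_forall h
  rw [this, Nat.card_univ, ← hc, Nat.card_coe_set_eq] at hf
  exact ((Set.eq_univ_iff_ncard _).2 hf ▸ Set.mem_univ p : p ∈ fixedBy P g)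

/-- The symmetric design on the cosets of a subgroup of index `|P|`. -/
theorem Two.fix_eq_coset [Finite G] (h : Two G P) {H : Subgroup G} (hi : H.index = Nat.card P)
    (hn : ¬ IsPretransitive H P) (g : G) : Nat.card (fixedBy P g) = Nat.card (fixedBy (G ⧸ H) g) := by
  obtain ⟨a, b, hab⟩ : ∃ a b : P, ∀ k : H, k • a ≠ b := by
    by_contra k; push Not at k; exact hn ⟨k⟩
  have ne : a ≠ b := fun e => hab 1 (by rw [one_smul, e])
  have tr : ∀ x y p : P, x ≠ y → ∃ g : G, g • x = p := fun x y p k => by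
    have : Nontrivial P := ⟨_, _, k⟩
    obtain ⟨q, hq⟩ := exists_ne p
    exact (h x y p q k hq.symm).imp fun _ => And.left
  refine h.fix_eq (fun p l => ∃ g : G, (g : G ⧸ H) = l ∧ g • a = p) (fun g p l => ⟨fun ⟨c, e1, e2⟩ => ⟨g⁻¹ * c,
    by rw [← smul_eq_mul, ← Quotient.smul_coe, e1, inv_smul_smul], by rw [mul_smul, e2, inv_smul_smul]⟩,
    fun ⟨c, e1, e2⟩ => ⟨g * c, by rw [← e1]; rfl, by rw [mul_smul, e2]⟩⟩) hi.symm
    (fun p => let ⟨g, e⟩ := tr a b p ne; ⟨g, g, rfl, e⟩) (fun p => ?_) g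
  obtain ⟨g, e⟩ := tr b a p ne.symm
  refine ⟨g, fun ⟨c, e1, e2⟩ => hab ⟨g⁻¹ * c, QuotientGroup.eq.1 e1.symm⟩ ?_, _, g, rfl, rfl⟩
  rw [Subgroup.smul_def, mul_smul, e2, ← e, inv_smul_smul]

theorem exists_ne_fixed {g : G} (hf : Nat.card (fixedBy P g) = Nat.card (fixedBy L g)) {a b : P} (hab : a ≠ b)
    (ha : g • a = a) (hb : g • b = b) (x : L) : ∃ y, y ≠ x ∧ g • y = y := by
  have h1 : 1 < (fixedBy L g).ncard := by
    rw [← Nat.card_coe_set_eq, ← hf, Nat.card_coe_set_eq]; exact Set.one_lt_ncard_iff (Set.toFinite _) |>.2 ⟨a, b, ha, hb, hab⟩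
  obtain ⟨y, hy, k⟩ := Set.exists_ne_of_one_lt_ncard h1 x
  exact ⟨y, k, hy⟩

end Cfsg.Lib.PG
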