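import Cfsg.Agent.Lib.Amalg.TVJordan

/-! The kernel of a spread-like partition admitting all shears is a field of the right size. -/

set_option autoImplicit false
set_option linter.unusedSectionVars false

namespace Cfsg.Lib.PG

open Cfsg.Lib.Amalg.TV

variable {M I : Type*} [AddCommGroup M]

/-- A partition of an abelian group with enough shears. -/
structure SP (T : I → AddSubgroup M) (Δ : I → AddSubgroup (AddMonoid.End M)) : Prop where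
  im : ∀ {y}, ∀ d ∈ Δ y, ∀ t, d t ∈ T y
  kill : ∀ {y}, ∀ d ∈ Δ y, ∀ t ∈ T y, d t = 0
  sur : ∀ {y z}, y ≠ z → ∀ t ∈ T z, t ≠ 0 → ∀ s ∈ T y, ∃ d ∈ Δ y, d t = s
  inv : ∀ {y z}, y ≠ z → ∀ d ∈ Δ y, ∀ t ∈ T z, d t ≠ 0 →
    ∃ e ∈ Δ z, (∀ t ∈ T z, e (d t) = t) ∧ ∀ s ∈ T y, d (e s) = s
  tri : ∀ {y w z}, y ≠ w → y ≠ z → w ≠ z → (∃ d ∈ Δ y, ∀ t ∈ T z, t + d t ∈ T w) ∨
    ∀ d ∈ Δ y, ∀ e ∈ Δ w, ∃ d' ∈ Δ y, ∀ t ∈ T z, d (e t) = d' t
  cov : ∀ t, ∃ y, t ∈ T y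
  dis : ∀ {y z}, y ≠ z → ∀ t ∈ T y, t ∈ T z → t = 0
  ne : ∀ y, ∃ t ∈ T y, t ≠ 0
  two : ∀ y : I, ∃ z, y ≠ z

namespace SP

variable [Finite M] {p : ℕ} [hp : Fact p.Prime] {T : I → AddSubgroup M} {Δ : I → AddSubgroup (AddMonoid.End M)}
  (h : SP T Δ) (hM : ∀ m : M, p • m = 0) {y z w : I}
include h

theorem pair (hyz : y ≠ z) : ∃ d ∈ Δ y, ∃ e ∈ Δ z, (∀ t ∈ T z, e (d t) = t) ∧ ∀ s ∈ T y, d (e s) = s := by
  obtain ⟨t, ht, t0⟩ := h.ne z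
  obtain ⟨s, hs, s0⟩ := h.ne y
  obtain ⟨d, hd, rfl⟩ := h.sur hyz t ht t0 s hs
  exact ⟨d, hd, h.inv hyz d hd t ht s0⟩

include hM

theorem field2 (hyz : y ≠ z) :
    (∀ d ∈ Δ y, ∀ e ∈ Δ z, ∀ d' ∈ Δ y, ∀ e' ∈ Δ z, ∀ s ∈ T y, d (e (d' (e' s))) = d' (e' (d (e s)))) ∧
      ∀ d ∈ Δ y, ∀ e ∈ Δ z, ∀ d' ∈ Δ y, ∃ d'' ∈ Δ y, ∀ t ∈ T z, d (e (d' t)) = d'' t := by
  obtain ⟨d0, hd0, e0, he0, i1, i2⟩ := h.pair hyz
  have : Finite (AddMonoid.End (T y)) := Finite.of_injective _ (DFunLike.coe_injective (F := T y →+ T y))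
  let mk : ∀ d ∈ Δ y, AddMonoid.End M → AddMonoid.End (T y) := fun d hd e =>
    AddMonoidHom.codRestrict (((d * e : AddMonoid.End M) : M →+ M).comp (T y).subtype) (T y) fun s => h.im d hd _
  have hmk : ∀ d hd e (s : T y), (mk d hd e s : M) = d (e s) := fun _ _ _ _ => rfl
  have ext : ∀ {a b : AddMonoid.End (T y)}, (∀ s, (a s : M) = b s) → a = b :=
    fun e => AddMonoidHom.ext fun s => Subtype.ext (e s)
  let S : AddSubgroup (AddMonoid.End (T y)) :=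
    { carrier := {r | ∃ d ∈ Δ y, ∀ s : T y, (r s : M) = d (e0 s)}
      zero_mem' := ⟨0, zero_mem _, fun _ => rfl⟩
      add_mem' := fun ⟨d, hd, e⟩ ⟨d', hd', e'⟩ => ⟨d + d', add_mem hd hd', fun s => congrArg₂ (· + ·) (e s) (e' s)⟩
      neg_mem' := fun ⟨d, hd, e⟩ => ⟨-d, neg_mem hd, fun s => congrArg (- ·) (e s)⟩ }
  let S' : AddSubgroup (AddMonoid.End (T y)) :=
    { carrier := {r | ∃ e ∈ Δ z, ∀ s : T y, (r s : M) = d0 (e s)}
      zero_mem' := ⟨0, zero_mem _, fun _ => (map_zero d0).symm⟩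
      add_mem' := fun ⟨d, hd, e⟩ ⟨d', hd', e'⟩ => ⟨d + d', add_mem hd hd', fun s =>
        (congrArg₂ (· + ·) (e s) (e' s)).trans (map_add d0 _ _).symm⟩
      neg_mem' := fun ⟨d, hd, e⟩ => ⟨-d, neg_mem hd, fun s => (congrArg (- ·) (e s)).trans (map_neg d0 _).symm⟩ }
  have h1 : ∀ x ∈ S, x ≠ 0 → ∃ x' ∈ S', x' * x = 1 := fun x ⟨d, hd, e⟩ x0 => by
    obtain ⟨s, hs⟩ := not_forall.1 fun k : ∀ s, (x s : M) = (0 : AddMonoid.End (T y)) s => x0 (ext k)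
    obtain ⟨e1, he1, j1, -⟩ := h.inv hyz d hd _ (h.im e0 he0 s) (e s ▸ hs)
    refine ⟨mk d0 hd0 e1, ⟨e1, he1, fun _ => rfl⟩, ext fun s => ?_⟩
    change d0 (e1 (x s)) = s
    rw [e, j1 _ (h.im e0 he0 _), i2 _ s.2]
  have h2 : ∀ x' ∈ S', x' ≠ 0 → ∃ x ∈ S, x * x' = 1 := fun x ⟨d, hd, e⟩ x0 => by
    obtain ⟨s, hs⟩ := not_forall.1 fun k : ∀ s, (x s : M) = (0 : AddMonoid.End (T y)) s => x0 (ext k)
    obtain ⟨e1, he1, j1, -⟩ := h.inv hyz.symm d hd _ s.2 fun k => hs (by rw [e, k, map_zero]; rfl)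
    refine ⟨mk e1 he1 e0, ⟨e1, he1, fun _ => rfl⟩, ext fun s => ?_⟩
    change e1 (e0 (x s)) = s
    rw [e, i1 _ (h.im d hd _), j1 _ s.2]
  have hJ : Jor S := jor_of_inv ⟨d0, hd0, fun s => (i2 _ s.2).symm⟩ h1 h2
  have hc : ∀ a ∈ S, ∀ b ∈ S, a * b = b * a := fun a ha b hb =>
    hJ.comm (p := p) (ext fun s => by simpa using hM s) (fun x hx x0 =>
      let ⟨_, _, e⟩ := h1 x hx x0; isUnit_of_mul_eq_one_fin (one_comm_fin e)) ha hb
  have hS' : ∀ x ∈ S', x ∈ S := fun x' hx' => by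
    by_cases x0 : x' = 0
    · rw [x0]; exact zero_mem _
    obtain ⟨x, hx, e⟩ := h2 x' hx' x0
    obtain ⟨k, hk, e1⟩ := exists_pow_eq_one_fin (isUnit_of_mul_eq_one_fin e)
    obtain ⟨k, rfl⟩ := Nat.exists_eq_succ_of_ne_zero hk.ne'
    have : x' = x ^ k := by rw [← one_mul x', ← e1, pow_succ, mul_assoc, e, mul_one]
    exact this ▸ hJ.pow hx k
  obtain ⟨s0, hs0, s00⟩ := h.ne y
  have hev : ∀ s : T y, ∃ c ∈ S, c ⟨s0, hs0⟩ = s := fun s => by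
    obtain ⟨d, hd, e⟩ := h.sur hyz _ (h.im e0 he0 s0) (fun k => s00 (by rw [← i2 s0 hs0, k, map_zero])) s s.2
    exact ⟨mk d hd e0, ⟨d, hd, fun _ => rfl⟩, Subtype.ext e⟩
  have hmul : ∀ a ∈ S, ∀ b ∈ S, a * b ∈ S := fun a ha b hb => by
    obtain ⟨c, hc1, e⟩ := hev ((a * b) ⟨s0, hs0⟩)
    have : a * b = c := AddMonoidHom.ext fun s => by
      obtain ⟨d, hd, rfl⟩ := hev s
      change (a * b * d) _ = (c * d) _
      rw [hc c hc1 d hd, mul_assoc, hc b hb d hd, ← mul_assoc, hc a ha d hd, mul_assoc]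
      exact congrArg d e.symm
    exact this ▸ hc1
  have hmem : ∀ d hd, ∀ e ∈ Δ z, mk d hd e ∈ S := fun d hd e he => by
    have : mk d hd e = mk d hd e0 * mk d0 hd0 e := ext fun s => by
      change d (e s) = d (e0 (d0 (e s))); rw [i1 _ (h.im e he _)]
    exact this ▸ hmul _ ⟨d, hd, fun _ => rfl⟩ _ (hS' _ ⟨e, he, fun _ => rfl⟩)
  refine ⟨fun d hd e he d' hd' e' he' s hs => ?_, fun d hd e he d' hd' => ?_⟩
  · exact congrArg Subtype.val (DFunLike.congr_fun (hc _ (hmem d hd e he) _ (hmem d' hd' e' he')) ⟨s, hs⟩)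
  · obtain ⟨d'', hd'', k⟩ := hmul _ (hmem d hd e he) _ (hmem d' hd' e0 he0)
    refine ⟨d'', hd'', fun t ht => ?_⟩
    have := k ⟨d0 t, h.im d0 hd0 t⟩
    change d (e (d' (e0 (d0 t)))) = d'' (e0 (d0 t)) at this
    rwa [i1 t ht] at this

theorem tri' (hyw : y ≠ w) (hyz : y ≠ z) (hwz : w ≠ z) :
    ∀ d ∈ Δ y, ∀ e ∈ Δ w, ∃ d' ∈ Δ y, ∀ t ∈ T z, d (e t) = d' t := by
  refine (h.tri hyw hyz hwz).elim (fun ⟨d2, hd2, k⟩ d hd e he => ?_) id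
  obtain ⟨d'', hd'', k2⟩ := (h.field2 hM hyw).2 d hd e he d2 hd2
  refine ⟨-d'', neg_mem hd'', fun t ht => ?_⟩
  have e1 := h.kill e he _ (k t ht)
  have e2 := k2 _ (k t ht)
  rw [map_add, map_add d'', h.kill d2 hd2 _ (h.im d2 hd2 t), h.kill d'' hd'' _ (h.im d2 hd2 t), add_zero, add_zero] at e2
  rw [map_add, add_eq_zero_iff_eq_neg] at e1
  rw [e1, map_neg, e2]; rfl

theorem comm (hyz : y ≠ z) (hyw : y ≠ w) :
    ∀ d ∈ Δ y, ∀ e ∈ Δ z, ∀ d' ∈ Δ y, ∀ e' ∈ Δ w, ∀ s ∈ T y, d (e (d' (e' s))) = d' (e' (d (e s))) := by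
  by_cases hzw : z = w
  · subst hzw; exact (h.field2 hM hyz).1
  intro d hd e he d' hd' e' he' s hs
  obtain ⟨a, ha, b, hb, -, i2⟩ := h.pair (Ne.symm hzw)
  obtain ⟨d1, hd1, k1⟩ := h.tri' hM hyw hyz (Ne.symm hzw) d' hd' a ha
  obtain ⟨e1, he1, k2⟩ := h.tri' hM hzw hyz.symm hyw.symm b hb e' he'
  have k : ∀ s ∈ T y, d' (e' s) = d1 (e1 s) := fun s hs => by
    rw [← i2 _ (h.im e' he' s), k1 _ (h.im b hb _), k2 s hs]
  rw [k s hs, k _ (h.im d hd _), (h.field2 hM hyz).1 d hd e he d1 hd1 e1 he1 s hs]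

theorem exists_ker (hyz : y ≠ z) {dc ec : AddMonoid.End M} (hdc : dc ∈ Δ y) (hec : ec ∈ Δ z) :
    ∃ k : AddMonoid.End M, (∀ w, ∀ e ∈ Δ w, e * k = k * e) ∧ ∀ s ∈ T y, k s = dc (ec s) := by
  classical
  choose! d hd e he i1 i2 using fun w (hw : y ≠ w) => h.pair hw
  choose z0 hz0 using h.cov
  let c : M → M := fun t => if t ∈ T y then dc (ec t) else e (z0 t) (dc (ec (d (z0 t) t)))
  have c1 : ∀ t ∈ T y, c t = dc (ec t) := fun t ht => if_pos ht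
  have c0 : c 0 = 0 := by rw [c1 0 (zero_mem _), map_zero, map_zero]
  have c2 : ∀ w, y ≠ w → ∀ t ∈ T w, c t = e w (dc (ec (d w t))) := fun w hw t ht => by
    by_cases t0 : t = 0
    · simp only [t0, c0, map_zero]
    have : z0 t = w := by_contra fun k => t0 (h.dis k t (hz0 t) ht)
    rw [← this]; exact if_neg fun k => t0 (h.dis hw t k ht)
  have hB : ∀ w, ∀ f ∈ Δ w, ∀ t, f (c t) = c (f t) := fun w f hf t => by
    obtain ⟨u, ht⟩ := h.cov t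
    by_cases huw : u = w
    · subst huw
      rw [h.kill f hf t ht, c0]
      refine h.kill f hf _ ?_
      by_cases hy : y = u
      · subst hy; rw [c1 t ht]; exact h.im dc hdc _
      · rw [c2 u hy t ht]; exact h.im _ (he u hy) _
    by_cases hyu : y = u
    · subst hyu
      rw [c2 w huw _ (h.im f hf t), h.comm hM hyz huw dc hdc ec hec _ (hd w huw) f hf t ht,
        i1 w huw _ (h.im f hf _), c1 t ht]
    by_cases hyw : y = w
    · subst hyw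
      rw [c2 u hyu t ht, c1 _ (h.im f hf t), ← h.comm hM hyz hyu dc hdc ec hec f hf _ (he u hyu) _ (h.im _ (hd u hyu) t),
        i1 u hyu t ht]
    obtain ⟨d', hd', k⟩ := h.tri' hM hyw hyu (Ne.symm huw) _ (hd w hyw) f hf
    rw [c2 u hyu t ht, c2 w hyw _ (h.im f hf t), ← i1 w hyw _ (h.im f hf _), k _ (h.im _ (he u hyu) _),
      ← h.comm hM hyz hyu dc hdc ec hec d' hd' _ (he u hyu) _ (h.im _ (hd u hyu) t), i1 u hyu t ht, k t ht]
  have hadd : ∀ s t, c (s + t) = c s + c t := fun s t => by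
    rw [← sub_eq_zero]
    by_contra r0
    obtain ⟨u, hu⟩ := h.cov (c (s + t) - (c s + c t))
    obtain ⟨w, hw⟩ := h.two u
    obtain ⟨s1, hs1, s10⟩ := h.ne w
    obtain ⟨f, hf, k⟩ := h.sur hw.symm _ hu r0 s1 hs1
    refine s10 ?_
    rw [← k, map_sub, map_add, hB w f hf, hB w f hf, hB w f hf, map_add, sub_eq_zero]
    have a1 := h.im f hf s
    have a2 := h.im f hf t
    by_cases hy : y = w
    · subst hy; rw [c1 _ a1, c1 _ a2, c1 _ (add_mem a1 a2), map_add, map_add]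
    · rw [c2 w hy _ a1, c2 w hy _ a2, c2 w hy _ (add_mem a1 a2), map_add, map_add, map_add, map_add]
  exact ⟨AddMonoidHom.mk' c hadd, fun w f hf => AddMonoidHom.ext (hB w f hf), c1⟩

theorem exists_field : ∃ (F : Type) (_ : Field F) (_ : Fintype F) (_ : Module F M),
    ∀ y, ∀ t ∈ T y, t ≠ 0 → ∀ s, s ∈ T y ↔ ∃ c : F, c • t = s := by
  let K := Subring.centralizer {f : AddMonoid.End M | ∃ y, f ∈ Δ y}
  have hK : ∀ (k : K) {w}, ∀ f ∈ Δ w, ∀ t, f (k.1 t) = k.1 (f t) := fun k w f hf t =>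
    DFunLike.congr_fun (k.2 f ⟨w, hf⟩) t
  have hinj : ∀ k : K, k ≠ 0 → ∀ t, k.1 t = 0 → t = 0 := fun k k0 t kt => by
    by_contra t0
    obtain ⟨y, ht⟩ := h.cov t
    have h1 : ∀ z, z ≠ y → ∀ s ∈ T z, k.1 s = 0 := fun z hz s hs => by
      obtain ⟨d, hd, rfl⟩ := h.sur hz t ht t0 s hs
      rw [← hK k d hd, kt, map_zero]
    refine k0 (Subtype.ext (AddMonoidHom.ext fun s => ?_))
    obtain ⟨z, hs⟩ := h.cov s
    by_cases hz : z = y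
    · subst hz
      obtain ⟨w, hw⟩ := h.two z
      obtain ⟨d, hd, e, he, -, i2⟩ := h.pair hw
      change k.1 s = 0
      rw [← i2 s hs, ← hK k d hd, h1 w hw.symm _ (h.im e he s), map_zero]
    · exact h1 z hz s hs
  obtain ⟨y0, -⟩ := h.cov 0
  obtain ⟨t0, -, t00⟩ := h.ne y0
  have : Nontrivial K := ⟨0, 1, fun e => t00 (DFunLike.congr_fun (congrArg Subtype.val e) t0).symm⟩
  have : NoZeroDivisors K := ⟨fun {a b} e => by
    by_contra k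
    exact t00 (hinj b (not_or.1 k).2 _ (hinj a (not_or.1 k).1 _ (DFunLike.congr_fun (congrArg Subtype.val e) t0)))⟩
  have : IsDomain K := NoZeroDivisors.to_isDomain _
  have : Finite (AddMonoid.End M) := Finite.of_injective _ (DFunLike.coe_injective (F := M →+ M))
  let ψ : Shrink.{0} K ≃+* K := Shrink.ringEquiv.{0} K
  have hF : IsField (Shrink.{0} K) := ψ.toMulEquiv.isField (Finite.isDomain_to_isField K)
  refine ⟨Shrink.{0} K, hF.toField, Fintype.ofFinite _,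
    Module.compHom M (K.subtype.comp (ψ : Shrink.{0} K →+* K)), fun y t ht t1 s => ⟨fun hs => ?_, ?_⟩⟩
  · obtain ⟨z, hz⟩ := h.two y
    obtain ⟨d, hd, e, he, -, i2⟩ := h.pair hz
    obtain ⟨d', hd', k⟩ := h.sur hz _ (h.im e he t) (fun k => t1 (by rw [← i2 t ht, k, map_zero])) s hs
    obtain ⟨c, hc, k2⟩ := h.exists_ker hM hz hd' he
    refine ⟨ψ.symm ⟨c, fun f ⟨w, hf⟩ => hc w f hf⟩, ?_⟩
    change (ψ (ψ.symm _)).1 t = s
    rw [ψ.apply_symm_apply, ← k]; exact k2 t ht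
  · rintro ⟨c, rfl⟩
    obtain ⟨z, hz⟩ := h.two y
    obtain ⟨d, hd, e, he, -, i2⟩ := h.pair hz
    change (ψ c).1 t ∈ T y
    rw [← i2 t ht, ← hK _ d hd]; exact h.im d hd _

end SP

end Cfsg.Lib.PG
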