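import Cfsg.Agent.Lib.PG.Plane
import Cfsg.Agent.Lib.Friend.Graph

/-! Elation groups; planes of odd order with many involutory homologies have prime power order. -/

set_option autoImplicit false
set_option linter.unusedSectionVars false

namespace Cfsg.Lib.PG

open Subgroup MulAction

variable {G P L : Type*} [Group G] [MulAction G P] [MulAction G L]

namespace CA

variable {I : P → L → Prop} {n : ℕ} (h : CA G I n) {p q c c' u w : P} {l m a a' b : L} {g g' z : G}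
include h

/-- The elations with axis `a`. -/
def TA (a : L) : Subgroup G where
  carrier := {g | Ax I g a ∧ ∃ c, I c a ∧ Ce I g c}
  one_mem' := let ⟨c, k, _⟩ := h.pt a a; ⟨fun _ _ => one_smul _ _, c, k, fun _ _ => one_smul _ _⟩
  inv_mem' := fun ⟨h1, c, h2, h3⟩ => ⟨h1.inv, c, h2, h3.inv⟩
  mul_mem' := fun {g g'} ⟨h1, c, h2, h3⟩ ⟨h4, c', h5, h6⟩ => ⟨h1.mul h4, by
    by_cases e : c = c'
    · exact ⟨c, h2, h3.mul (e ▸ h6)⟩
    by_cases e1 : g' = 1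
    · exact ⟨c, h2, by rwa [e1, mul_one]⟩
    obtain ⟨u, hu⟩ := h.exists_ce (h1.mul h4)
    refine ⟨u, by_contra fun k => ?_, hu⟩
    obtain ⟨m, k1, k2⟩ := h.line c u
    have k3 := hu m k2
    rw [mul_smul, ← eq_inv_smul_iff, inv_fix (h3 m k1)] at k3
    exact k ((h.fix_cases' e1 h4 h6 k3).elim id (fun k4 => h.leq k1 k4 h2 h5 e) ▸ k2)⟩

theorem comm_diff (h1 : Ax I g a) (h2 : I c a) (h3 : Ce I g c) (h4 : Ax I g' a) (h5 : I c' a) (h6 : Ce I g' c')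
    (hne : c ≠ c') : g * g' = g' * g := by
  have e1 : g * g' * g⁻¹ * g'⁻¹ = 1 := h.one_of_ce
    (by simpa [mul_assoc] using h3.mul (h.dual.ax_conj' h3.inv (h4 c h2)))
    ((h.dual.ax_conj' h6 (h1 c' h5)).mul h6.inv) hne
  rwa [mul_inv_eq_one, mul_inv_eq_iff_eq_mul] at e1

theorem pow_diff {r : ℕ} (h1 : Ax I g a) (h2 : I c a) (h3 : Ce I g c) (h4 : Ax I g' a) (h5 : I c' a) (h6 : Ce I g' c')
    (hne : c ≠ c') (g1 : g ≠ 1) (hr : g ^ r = 1) : g' ^ r = 1 := by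
  obtain ⟨-, d, -, k⟩ := (h.TA a).mul_mem ⟨h1, c, h2, h3⟩ ⟨h4, c', h5, h6⟩
  have k1 := k.pow r
  rw [Commute.mul_pow (h.comm_diff h1 h2 h3 h4 h5 h6 hne), hr, one_mul] at k1
  exact h.one_of_ce k1 (h6.pow r) fun e => g1 (h.one_of_ce h3 (mul_inv_cancel_right g g' ▸ k.mul (e ▸ h6.inv)) (e ▸ hne))

theorem elem [Finite G] (h1 : Ax I g a) (h2 : I c a) (h3 : Ce I g c) (h4 : Ax I g' a) (h5 : I c' a) (h6 : Ce I g' c')
    (hne : c ≠ c') (g1 : g ≠ 1) (g2 : g' ≠ 1) :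
    (∀ x ∈ h.TA a, ∀ y ∈ h.TA a, x * y = y * x) ∧ ∃ r : ℕ, r.Prime ∧ ∀ x ∈ h.TA a, x ^ r = 1 := by
  refine ⟨fun x ⟨k1, d, k2, k3⟩ y ⟨k4, d', k5, k6⟩ => ?_, ?_⟩
  · by_cases e : d = d'
    · subst e
      have key : ∀ {g : G} {c}, Ax I g a → I c a → Ce I g c → g ≠ 1 → d ≠ c → x * y = y * x := fun {g c} h1 h2 h3 g1 e => by
        obtain ⟨j1, f, j2, j3⟩ := (h.TA a).mul_mem ⟨k4, d, k5, k6⟩ ⟨h1, c, h2, h3⟩
        have := h.comm_diff k1 k2 k3 j1 j2 j3 fun e' => g1 (h.one_of_ce (inv_mul_cancel_left y g ▸ k6.inv.mul (e' ▸ j3)) h3 e)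
        rwa [mul_assoc, ← h.comm_diff k1 k2 k3 h1 h2 h3 e, ← mul_assoc, ← mul_assoc, mul_left_inj] at this
      by_cases e : d = c
      exacts [key h4 h5 h6 g2 (e ▸ hne), key h1 h2 h3 g1 e]
    · exact h.comm_diff k1 k2 k3 k4 k5 k6 e
  obtain ⟨r, hr, s, hs⟩ := Nat.exists_prime_and_dvd (fun e => g1 (orderOf_eq_one_iff.1 e))
  have o := orderOf_pos g
  have s0 : s ≠ 0 := fun e => by simp [e, o.ne'] at hs
  have j1 : g ^ s ≠ 1 := pow_ne_one_of_lt_orderOf s0 (by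
    have := hr.two_le; rw [hs]; nlinarith [Nat.pos_of_ne_zero s0])
  have j2 : (g ^ s) ^ r = 1 := by rw [← pow_mul, mul_comm, ← hs, pow_orderOf_eq_one]
  refine ⟨r, hr, fun x ⟨k1, d, k2, k3⟩ => ?_⟩
  by_cases e : c = d
  · exact h.pow_diff h4 h5 h6 k1 k2 k3 (e ▸ hne.symm) g2 (h.pow_diff (h1.pow s) h2 (h3.pow s) h4 h5 h6 hne j1 j2)
  · exact h.pow_diff (h1.pow s) h2 (h3.pow s) k1 k2 k3 e j1 j2

variable [Finite P] [Finite L] [Finite G]

theorem pp_of_all (k : ∀ c, I c a → ∃ g : G, g ≠ 1 ∧ Ax I g a ∧ Ce I g c) : ∃ r k : ℕ, r.Prime ∧ n = r ^ k := by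
  classical
  have := Fintype.ofFinite G
  have := Fintype.ofFinite P
  obtain ⟨c, h1, -⟩ := h.pt a a
  obtain ⟨c', h2, h3, -⟩ := h.ex3 a c c
  obtain ⟨g, g1, h4, h5⟩ := k c h1
  obtain ⟨g', g2, h6, h7⟩ := k c' h2
  obtain ⟨-, r, hr, hp⟩ := h.elem h4 h1 h5 h6 h2 h7 h3.symm g1 g2
  have := Fact.mk hr
  have hP : IsPGroup r (h.TA a) := fun x => ⟨1, Subtype.ext (by simpa using hp x x.2)⟩
  let Z : P → Subgroup (h.TA a) := fun c =>
    { carrier := {g | Ce I (g : G) c}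
      one_mem' := fun _ _ => one_smul _ _
      mul_mem' := fun h1 h2 => Ax.mul h1 h2
      inv_mem' := fun h1 => Ax.inv h1 }
  let l : Finset P := Finset.univ.filter (I · a)
  have hl : ∀ {c}, c ∈ l ↔ I c a := by simp [l]
  obtain ⟨w, hw, hmin⟩ := l.exists_min_image (fun c => Nat.card (Z c)) ⟨c, hl.2 h1⟩
  rw [hl] at hw
  let S : SubMulAction (h.TA a) L := ⟨{m | I w m ∧ m ≠ a}, fun g m hm => ⟨h.mem' hm.1 (g.2.1 w hw), fun e =>
    hm.2 (smul_left_cancel (g : G) (e.trans (h.ax_fix g.2.1).symm))⟩⟩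
  have e1 : (Z w).index ∣ n := by
    refine (dvd_card_of_orbits (K := h.TA a) (S := S) (q := (Z w).index) fun s => congrArg index
      (Subgroup.ext fun g => ⟨fun e => ?_, fun e => Subtype.ext (e s s.2.1)⟩)).trans (h.toPl.dual.pc' hw).dvd
    by_cases g1 : (g : G) = 1
    · exact fun m _ => by rw [g1, one_smul]
    obtain ⟨k1, d, k2, k3⟩ := g.2
    exact h.peq ((h.fix_cases' g1 k1 k3 (congrArg Subtype.val e)).resolve_left s.2.2) s.2.1 k2 hw s.2.2 ▸ k3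
  obtain ⟨j, hj⟩ := hP.index (Z w)
  refine ⟨r, j, hr, by_contra fun hne => ?_⟩
  have := h.two
  have e2 : 2 * (Z w).index ≤ n := by
    obtain ⟨s, hs⟩ := e1
    rcases s with _ | _ | s
    · omega
    · exact absurd (by rw [hs, hj]; simp) hne
    · nlinarith
  let cs : Subgroup (h.TA a) → Finset (h.TA a) := fun S => (Finset.univ.filter (· ∈ S)).erase 1
  have hcs : ∀ S, (cs S).card = Nat.card S - 1 := fun S => by
    rw [Finset.card_erase_of_mem (by simp), Nat.card_eq_fintype_card, Fintype.card_subtype]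
  have e3 : l.card * (Nat.card (Z w) - 1) ≤ Nat.card (h.TA a) - 1 := by
    rw [← card_top (G := h.TA a), ← hcs ⊤]
    refine le_trans ?_ (Finset.card_le_card (s := l.biUnion fun c => cs (Z c)) fun x => by simp [cs]; tauto)
    rw [Finset.card_biUnion, ← smul_eq_mul]
    · exact Finset.card_nsmul_le_sum _ _ _ fun c hc => by rw [hcs]; exact Nat.sub_le_sub_right (hmin c hc) 1
    · intro c _ c' _ hne
      refine Finset.disjoint_left.2 fun x hx hx' => ?_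
      simp only [cs, Finset.mem_erase, Finset.mem_filter, Finset.mem_univ, true_and] at hx hx'
      exact hx.1 (Subtype.ext (h.one_of_ce hx.2 hx'.2 hne))
  have e4 : l.card = n + 1 := by rw [← h.pc a, Set.ncard_eq_toFinset_card']; congr 1; ext; simp [l]
  have e5 : 1 < Nat.card (Z w) := by
    obtain ⟨g, g1, k1, k2⟩ := k w hw
    exact Finite.one_lt_card_iff_nontrivial.2 ⟨⟨⟨g, k1, w, hw, k2⟩, k2⟩, 1, fun e => g1 (congrArg (·.1.1) e)⟩
  rw [e4, ← (Z w).card_mul_index] at e3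
  obtain ⟨Q, hQ⟩ : ∃ Q, Nat.card (Z w) = Q + 2 := ⟨Nat.card (Z w) - 2, by omega⟩
  rw [hQ] at e3
  have : (n + 1) * (Q + 1) + 1 ≤ (Q + 2) * (Z w).index := by
    have : 0 < (Q + 2) * (Z w).index := Nat.mul_pos (by omega) (hj ▸ pow_pos hr.pos j)
    exact (Nat.le_sub_iff_add_le this).1 e3
  nlinarith

variable (hn : Odd n)
include hn

theorem andre (h1 : Hm I g c a) (h2 : Hm I g' c' a) (hne : c ≠ c') (k1 : I c l) (k2 : I c' l) (k3 : I w l) (k4 : I w a) :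
    g * g' ≠ 1 ∧ Ax I (g * g') a ∧ Ce I (g * g') w := by
  have e3 : g * g' ≠ 1 := fun e => h1.ne (h.one_of_ce h1.ce (by rw [eq_inv_of_mul_eq_one_left e]; exact h2.ce.inv) hne)
  obtain ⟨x, hx⟩ := h.exists_ce (h1.ax.mul h2.ax)
  have i1 := inv_eq_of_mul_eq_one_left h1.sq
  have i2 := inv_eq_of_mul_eq_one_left h2.sq
  have j1 : g • x = x := by_contra fun e => e3 (inv_eq_one.1 (h.one_of_ce
    (by simpa only [← mul_assoc, h1.sq, one_mul, mul_inv_rev, i2] using h.dual.ax_conj hx g) hx.inv e))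
  have j2 : g' • x = x := by_contra fun e => e3 (inv_eq_one.1 (h.one_of_ce
    (by simpa only [mul_assoc, mul_inv_cancel, mul_one, mul_inv_rev, i1, i2, h2.sq] using h.dual.ax_conj hx g') hx.inv e))
  have j3 : I x a := by_contra fun e => hne (((h.fix_cases h1.ne h1.ax h1.ce j1).resolve_right e).symm.trans
    ((h.fix_cases h2.ne h2.ax h2.ce j2).resolve_right e))
  have j4 : l ≠ a := fun e => h.hm_off hn h1 (e ▸ k1)
  exact ⟨e3, h1.ax.mul h2.ax, h.peq ((h.fix_cases' e3 (h1.ax.mul h2.ax) hx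
    (by rw [mul_smul, h2.ce l k2, h1.ce l k1])).resolve_left j4) k3 j3 k4 j4 ▸ hx⟩

theorem all_axis (H : ∀ x y : P, x ≠ y → ∃ (g : G) (c : P) (a : L), Hm I g c a ∧ g • x = x ∧ g • y = y) (l : L) :
    ∃ (g : G) (c : P), Hm I g c l := by
  by_contra k
  have key : ∀ x y, I x l → I y l → x ≠ y → ∃ (g : G) (a : L), Hm I g x a ∧ I y a ∨ Hm I g y a ∧ I x a :=
    fun x y hx hy hne => by
      obtain ⟨g, c, a, h1, h2, h3⟩ := H x y hne
      rcases h.fix_cases h1.ne h1.ax h1.ce h2 with rfl | h4 <;> rcases h.fix_cases h1.ne h1.ax h1.ce h3 with rfl | h5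
      · exact (hne rfl).elim
      · exact ⟨g, a, Or.inl ⟨h1, h5⟩⟩
      · exact ⟨g, a, Or.inr ⟨h1, h4⟩⟩
      · exact (k ⟨g, c, h.leq h4 h5 hx hy hne ▸ h1⟩).elim
  have key2 : ∀ {x y : P} {g : G} {a : L}, I x l → I y l → Hm I g x a → I y a → False := fun {x y g a} hx hy h1 h2 => by
    obtain ⟨w, h3, h4, h5⟩ := h.ex3 l x y
    have h6 : g • w ≠ w := fun e => (h.fix_cases h1.ne h1.ax h1.ce e).elim h4 fun e =>
      h.hm_off hn h1 (h.leq h3 hy e h2 h5 ▸ hx)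
    have h7 := h.mem h3 (h1.ce l hx)
    have h8 : g • g • w = w := by rw [← mul_smul, h1.sq, one_smul]
    obtain ⟨s, b, ⟨j1, j2⟩ | ⟨j1, j2⟩⟩ := key _ w h7 h3 h6
    · obtain ⟨d, -, -, j3⟩ := h.ostrom hn j1 (h8 ▸ h.hm_conj j1 g) j2 ((h.inv g _ _).2 j2) h7 h3
      exact k ⟨_, _, j3⟩
    · obtain ⟨d, -, -, j3⟩ := h.ostrom hn j1 (h.hm_conj j1 g) j2 (h8 ▸ (h.inv g _ _).2 j2) h3 h7
      exact k ⟨_, _, j3⟩
  obtain ⟨x, hx, -⟩ := h.pt l l
  obtain ⟨y, hy, hne, -⟩ := h.ex3 l x x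
  obtain ⟨g, a, ⟨h1, h2⟩ | ⟨h1, h2⟩⟩ := key y x hy hx hne
  exacts [key2 hy hx h1 h2, key2 hx hy h1 h2]

theorem mem_of_not_good (h1 : Hm I g c a) (h2 : Hm I g' c' a') (k : I c' a)
    (hg : ¬ ∃ e : G, e ≠ 1 ∧ Ax I e a ∧ Ce I e c') : I c a' := by
  by_contra k1
  have h3 := h.hm_conj h2 g
  rw [h1.ax c' k] at h3
  obtain ⟨w, k2, k3⟩ := h.pt a' a
  obtain ⟨j1, j2, j3⟩ := h.dual.andre hn h2.dual h3.dual (fun e => (h.fix_cases' h1.ne h1.ax h1.ce e.symm).elim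
    (fun e => h.hm_off hn h2 (e ▸ k)) k1) k2 (h.mem' k2 (h1.ax w k3)) k3 k
  exact hg ⟨_, j1, j3, j2⟩

theorem pp_of_hm (H1 : ∀ l : L, ∃ (g : G) (c : P), Hm I g c l) (H2 : ∀ c : P, ∃ (g : G) (l : L), Hm I g c l) :
    ∃ r k : ℕ, r.Prime ∧ n = r ^ k := by
  classical
  by_cases k : ∃ (w : P) (a : L), I w a ∧ ∃ e : G, e ≠ 1 ∧ Ax I e a ∧ Ce I e w
  · obtain ⟨w, a, hw, e, e1, e2, e3⟩ := k
    obtain ⟨g, c, h1⟩ := H1 a
    obtain ⟨b, hb, hb'⟩ := h.line c w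
    have hab : a ≠ b := fun e => h.hm_off hn h1 (e ▸ hb)
    have key : ∀ {w} {e : G}, I w a → e ≠ 1 → Ax I e a → Ce I e w → ∀ {c' a'} {g' : G}, Hm I g' c' a' → I c' a →
        (¬ ∃ e : G, e ≠ 1 ∧ Ax I e a ∧ Ce I e c') → I c a' ∧ I w a' := fun {w e} hw e1 e2 e3 c' a' g' h2 k hg => by
      have j1 := h.mem_of_not_good hn h1 h2 k hg
      have j2 := h.mem_of_not_good hn (h.ax_fix e2 ▸ h.hm_conj h1 e) h2 k hg
      obtain ⟨b, hb, hb'⟩ := h.line c w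
      exact ⟨j1, h.leq (h.mem hb (e3 b hb')) hb j2 j1 (fun k => (h.fix_cases e1 e2 e3 k).elim
        (fun k => h.hm_off hn h1 (k ▸ hw)) (h.hm_off hn h1)) ▸ hb'⟩
    by_cases k1 : ∃ w', w' ≠ w ∧ I w' a ∧ ∃ e : G, e ≠ 1 ∧ Ax I e a ∧ Ce I e w'
    · obtain ⟨w', k1, hw', e', f1, f2, f3⟩ := k1
      refine h.pp_of_all (a := a) fun c' hc' => by_contra fun hg => ?_
      obtain ⟨g', a', h2⟩ := H2 c'
      exact h.hm_off hn h2 (h.leq hw' hw (key hw' f1 f2 f3 h2 hc' hg).2 (key hw e1 e2 e3 h2 hc' hg).2 k1 ▸ hc')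
    have key2 : ∀ c', I c' a → c' ≠ w → ∃ g' : G, Hm I g' c' b := fun c' k2 k3 => by
      obtain ⟨g', a', h2⟩ := H2 c'
      have := key hw e1 e2 e3 h2 k2 fun k => k1 ⟨c', k3, k2, k⟩
      exact ⟨g', h.leq this.1 this.2 hb hb' (fun e => h.hm_off hn h1 (e ▸ hw)) ▸ h2⟩
    obtain ⟨x, x1, x2, -⟩ := h.ex3 a w w
    obtain ⟨y, y1, y2, y3⟩ := h.ex3 a w x
    obtain ⟨s, hs⟩ := key2 x x1 x2
    obtain ⟨t, ht⟩ := key2 y y1 y2
    obtain ⟨j1, j2, j3⟩ := h.andre hn hs ht y3.symm x1 y1 hw hb'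
    obtain ⟨-, r, hr, hp⟩ := h.dual.elem e3 hw e2 j3 hb' j2 hab e1 j1
    have := Fact.mk hr
    have hP : IsPGroup r (h.dual.TA w) := fun x => ⟨1, Subtype.ext (by simpa using hp x x.2)⟩
    obtain ⟨j, hj⟩ := hP.card_orbit x
    refine ⟨r, j, hr, ?_⟩
    refine (h.pc' hw).symm.trans (Eq.trans (congrArg Set.ncard (Set.ext fun y => ⟨fun ⟨y1, y2⟩ => ?_, ?_⟩)) hj)
    · by_cases y3 : x = y
      · exact y3 ▸ mem_orbit_self x
      obtain ⟨t, ht⟩ := key2 y y1 y2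
      obtain ⟨j1, j2, j3⟩ := h.andre hn hs ht y3 x1 y1 hw hb'
      have j4 : s * t ∈ h.dual.TA w := ⟨j3, b, hb', j2⟩
      obtain ⟨i, hi⟩ := hn.of_dvd_nat (h.dvd_of_el (hp _ j4) j1 j2 j3 hb')
      have j5 : s * (s * t) * s⁻¹ = (s * t)⁻¹ := by
        rw [← mul_assoc, hs.sq, one_mul, mul_inv_rev, inv_eq_of_mul_eq_one_left ht.sq]
      have j6 : s * (s * t) ^ i * s⁻¹ = ((s * t) ^ i)⁻¹ := by rw [← conj_pow, j5, inv_pow]
      have j7 : (s * t) ^ i * (s * t) ^ i * (s * t) = 1 := by rw [← pow_add, ← pow_succ, ← two_mul, ← hi, hp _ j4]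
      have j8 : (s * t) ^ i * s * ((s * t) ^ i)⁻¹ = t := by
        rw [← j6, ← mul_assoc, ← mul_assoc, mul_assoc _ s s, hs.sq, mul_one, eq_inv_of_mul_eq_one_left j7, mul_inv_rev,
          mul_assoc, ← mul_inv_rev, hs.sq, inv_one, mul_one, inv_eq_of_mul_eq_one_left ht.sq]
      have j9 := h.dual.ax_conj hs.ce ((s * t) ^ i)
      rw [j8] at j9
      exact ⟨⟨_, pow_mem j4 i⟩, by_contra fun e => ht.ne (h.one_of_ce j9 ht.ce e)⟩
    · rintro ⟨g, rfl⟩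
      exact ⟨h.mem x1 (g.2.1 a hw), fun e => x2 (smul_left_cancel (g : G) (e.trans (h.dual.ax_fix g.2.1).symm))⟩
  exfalso
  choose s ax hs using H2
  have ng : ∀ {w : P} {a : L}, I w a → ¬ ∃ e : G, e ≠ 1 ∧ Ax I e a ∧ Ce I e w := fun hw e => k ⟨_, _, hw, e⟩
  have inj : ∀ {c c'}, c ≠ c' → ax c ≠ ax c' := fun {c c'} hne e => by
    obtain ⟨l, h1, h2⟩ := h.line c c'
    obtain ⟨w, h3, h4⟩ := h.pt l (ax c)
    exact ng h4 ⟨_, h.andre hn (hs c) (e ▸ hs c') hne h1 h2 h3 h4⟩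
  let Γ : SimpleGraph P :=
    { Adj := fun c c' => I c' (ax c)
      symm := ⟨fun c c' k => h.mem_of_not_good hn (hs c) (hs c') k (ng k)⟩
      loopless := ⟨fun c => h.hm_off hn (hs c)⟩ }
  have := Fintype.ofFinite P
  have := h.ne
  obtain ⟨c, hc⟩ := Friend.friendship_theorem (G := Γ) fun v w hne => by
    obtain ⟨x, h1, h2⟩ := h.pt (ax v) (ax w)
    exact Fintype.card_eq_one_iff.2 ⟨⟨x, h1, h2⟩, fun y => Subtype.ext (h.peq y.2.1 h1 y.2.2 h2 (inj hne))⟩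
  obtain ⟨l, h1, -⟩ := h.line c c
  obtain ⟨x, h2, h3, -⟩ := h.ex3 l c c
  obtain ⟨y, h4, h5, h6⟩ := h.ex3 l c x
  exact h.hm_off hn (hs c) (h.leq h4 h2 (hc y h5.symm) (hc x h3.symm) h6 ▸ h1)

end CA

end Cfsg.Lib.PG
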