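import Cfsg.Agent.Lib.PG.Core
import Cfsg.Agent.Lib.PG.Field

/-! O'Nan's theorem: hyperplanes, translation groups and the field. -/

set_option autoImplicit false
set_option linter.unusedSectionVars false

namespace Cfsg.Lib.PG

open Subgroup MulAction

variable {G X : Type*} [Group G] [MulAction G X]

/-- Hyperplanes which are axes. -/
structure Hyp (V : X → Subgroup G) (H : Set X) : Prop where
  sub : ∀ {u w z}, u ≠ w → u ∈ H → w ∈ H → Col V u w z → z ∈ H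
  meet : ∀ {u w}, u ≠ w → ∃ z ∈ H, Col V u w z
  ne : ∃ o, o ∉ H
  ex : ∃ y ∈ H, ∃ a ∈ V y, a ≠ 1 ∧ ∀ u ∈ H, a • u = u

namespace OA

variable [Finite G] [Finite X] {p : ℕ} [hp : Fact p.Prime] {V : X → Subgroup G} (h : OA p V)
  {x y z u w o : X} {a b g v s t : G} {H : Set X}
include h

theorem trans (hxw : x ≠ w) (hxu : x ≠ u) (hu : Col V x w u) : ∃ v ∈ V x, v • w = u :=
  let ⟨_, hy⟩ := h.ex_ncol hxw; (h.count hxw hy).2.1 u hxu hu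

theorem third (hxy : x ≠ y) : ∃ w, Col V x y w ∧ w ≠ x ∧ w ≠ y :=
  let ⟨_, hv, e⟩ := h.ex_move hxy; ⟨_, h.col_V hv col_right, (h.smul_ne hv hxy).symm, e⟩

theorem col_rot (hxy : x ≠ y) (hzx : z ≠ x) (hz : Col V x y z) : Col V z x y :=
  (h.col_iff hxy hzx hz h.col_left).2 col_right

theorem hyp_fix (ha : a ∈ V y) (h1 : a ≠ 1) : Hyp V {u | a • u = u} where
  sub huw hu hw hz := h.fix_line ha huw hu hw hz
  meet {u w} huw := by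
    by_cases hy : Col V u w y
    · exact ⟨y, h.fix y a ha, hy⟩
    · obtain ⟨z, hz, e⟩ := (h.count huw hy).1 a ha
      exact ⟨z, e, hz⟩
  ne := not_forall.1 fun e => h1 (h.faith a e)
  ex := ⟨y, h.fix y a ha, a, ha, h1, fun _ e => e⟩

variable (hH : Hyp V H)
include hH

theorem eq_one (ht : t ∈ V y) (hf : ∀ u ∈ H, t • u = u) (ho : o ∉ H) (e : t • o = o) : t = 1 := h.faith t fun u => by
  by_cases h1 : o = u
  · rw [← h1, e]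
  obtain ⟨z, hz, k⟩ := hH.meet h1
  have h2 : o ≠ z := fun e => ho (e ▸ hz)
  exact h.fix_line ht h2 e (hf z hz) (h.col_swap h1 h2 k)

theorem smul_mem (hw : w ∈ H) (hv : v ∈ V w) (hu : u ∈ H) : v • u ∈ H := by
  by_cases e : w = u
  · rw [← e, h.fix w v hv]; exact hw
  · exact hH.sub e hw hu (h.col_V hv col_right)

theorem conj_fix (hw : w ∈ H) (hv : v ∈ V w) (hf : ∀ u ∈ H, t • u = u) : ∀ u ∈ H, (v * t * v⁻¹) • u = u := fun u hu => by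
  rw [mul_smul, mul_smul, hf _ (h.smul_mem hH hw (inv_mem hv) hu), smul_inv_smul]

theorem two_pts (y : X) : ∃ z ∈ H, y ≠ z := by
  obtain ⟨x', y', h1, -⟩ := h.nsr
  have : Nontrivial X := ⟨_, _, h1⟩
  obtain ⟨x, hx⟩ := exists_ne y
  obtain ⟨w, hw⟩ := h.ex_ncol hx.symm
  have h2 : x ≠ w := fun e => hw (e ▸ col_right)
  obtain ⟨z, hz, k⟩ := hH.meet h2
  exact ⟨z, hz, fun e => hw (h.col_rot h2 hx.symm (e ▸ k))⟩

theorem exT (hy : y ∈ H) : ∃ a ∈ V y, a ≠ 1 ∧ ∀ u ∈ H, a • u = u := by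
  obtain ⟨y0, hy0, a, ha, h1, hf⟩ := hH.ex
  by_cases e : y0 = y
  · exact ⟨a, e ▸ ha, h1, hf⟩
  obtain ⟨w, hw, h2, h3⟩ := h.third e
  obtain ⟨c, hc, rfl⟩ := h.trans h2 h3 (h.col_rot e h2 hw)
  exact ⟨_, h.eqv c _ a ha, by simpa using h1, h.conj_fix hH (hH.sub e hy0 hy hw) hc hf⟩

theorem cntT (hy : y ∈ H) (hyz : y ≠ z) (hb : b ∈ V z) (h1 : b ≠ 1) (hf : ∀ u ∈ H, b • u = u) (ho : o ∉ H) :
    (∀ s ∈ V y, (∀ u ∈ H, s • u = u) → ∃ v ∈ V y, v * b * v⁻¹ * b⁻¹ = s) ∧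
      ∀ v ∈ V y, ∃ t ∈ V y, (∀ u ∈ H, t • u = u) ∧ t • o = v • o := by
  let R := {t : G // t ∈ V y ∧ ∀ u ∈ H, t • u = u}
  choose c hc using fun w : orbit (V y) z => w.2
  let φ : orbit (V y) z → R := fun w => ⟨c w * b * (c w : G)⁻¹ * b⁻¹,
    by simpa [mul_assoc] using mul_mem (c w).2 (h.eqv' (inv_mem (c w).2) (hf y hy)),
    fun u hu => by rw [mul_smul, inv_fix (hf u hu), h.conj_fix hH hy (c w).2 hf u hu]⟩
  let ψ : R → orbit (V y) o := fun t => ⟨t.1 • o, ⟨t.1, t.2.1⟩, rfl⟩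
  have hφ : Function.Injective φ := fun w w' e => by
    have e1 : c w * b * (c w : G)⁻¹ = c w' * b * (c w' : G)⁻¹ := mul_right_cancel (congrArg Subtype.val e)
    have := h.fix_of_comm (g := (c w' : G)⁻¹ * c w) hb h1 (by
      calc (c w' : G)⁻¹ * c w * b = (c w' : G)⁻¹ * (c w * b * (c w : G)⁻¹) * c w := by group
        _ = _ := by rw [e1]; group)
    rw [mul_smul, inv_smul_eq_iff] at this
    exact Subtype.ext ((hc w).symm.trans (this.trans (hc w')))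
  have hψ : Function.Injective ψ := fun t t' e => Subtype.ext (inv_mul_eq_one.1 (h.eq_one hH
    (mul_mem (inv_mem t.2.1) t'.2.1) (fun u hu => by rw [mul_smul, t'.2.2 u hu, inv_fix (t.2.2 u hu)]) ho
    (by rw [mul_smul, inv_smul_eq_iff]; exact (congrArg Subtype.val e).symm)))
  have hc : Nat.card (orbit (V y) o) = Nat.card (orbit (V y) z) := by
    rw [Nat.card_coe_set_eq, Nat.card_coe_set_eq, ← index_stabilizer, ← index_stabilizer]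
    exact h.index_eq (fun e => ho (e ▸ hy)) hyz
  refine ⟨fun s hs hs' => ?_, fun v hv => ?_⟩
  · obtain ⟨w, e⟩ := (hφ.bijective_of_nat_card_le ((Nat.card_le_card_of_injective ψ hψ).trans hc.le)).2 ⟨s, hs, hs'⟩
    exact ⟨_, (c w).2, congrArg Subtype.val e⟩
  · obtain ⟨t, e⟩ := (hψ.bijective_of_nat_card_le (hc.le.trans (Nat.card_le_card_of_injective φ hφ))).2
      ⟨v • o, ⟨v, hv⟩, rfl⟩
    exact ⟨t.1, t.2.1, t.2.2, congrArg Subtype.val e⟩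

theorem surT (hy : y ∈ H) (hyz : y ≠ z) (hb : b ∈ V z) (h1 : b ≠ 1) (hf : ∀ u ∈ H, b • u = u)
    (hs : s ∈ V y) (hs' : ∀ u ∈ H, s • u = u) : ∃ v ∈ V y, v * b * v⁻¹ * b⁻¹ = s :=
  let ⟨_, ho⟩ := hH.ne; (h.cntT hH hy hyz hb h1 hf ho).1 s hs hs'

theorem transT (hy : y ∈ H) (ho : o ∉ H) (hyu : y ≠ u) (hu : Col V y o u) :
    ∃ t ∈ V y, (∀ u ∈ H, t • u = u) ∧ t • o = u := by
  obtain ⟨z, hz, hyz⟩ := h.two_pts hH y
  obtain ⟨b, hb, h1, hf⟩ := h.exT hH hz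
  obtain ⟨v, hv, rfl⟩ := h.trans (fun e : y = o => ho (e ▸ hy)) hyu hu
  exact (h.cntT hH hy hyz hb h1 hf ho).2 v hv

/-- The translation group with axis `H`. -/
def TT : Subgroup G where
  carrier := {t | (∃ y ∈ H, t ∈ V y) ∧ ∀ u ∈ H, t • u = u}
  one_mem' := let ⟨y, hy, _⟩ := hH.ex; ⟨⟨y, hy, one_mem _⟩, fun _ _ => one_smul _ _⟩
  inv_mem' := fun ⟨⟨y, hy, ht⟩, hf⟩ => ⟨⟨y, hy, inv_mem ht⟩, fun u hu => inv_fix (hf u hu)⟩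
  mul_mem' := fun {s t} ⟨⟨y, hy, hs⟩, hf⟩ ⟨⟨z, hz, ht⟩, hf'⟩ => ⟨by
    by_cases e : y = z
    · exact ⟨y, hy, mul_mem hs (e ▸ ht)⟩
    by_cases e1 : t = 1
    · exact ⟨y, hy, by rwa [e1, mul_one]⟩
    obtain ⟨v, hv, rfl⟩ := h.surT hH hy e ht e1 hf' hs hf
    exact ⟨_, h.smul_mem hH hy hv hz, by simpa using h.eqv v z t ht⟩, fun u hu => by rw [mul_smul, hf' u hu, hf u hu]⟩

theorem TT_comm (hs : s ∈ h.TT hH) (ht : t ∈ h.TT hH) : s * t = t * s := by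
  obtain ⟨⟨y, hy, hs⟩, hf⟩ := hs
  obtain ⟨⟨z, hz, ht⟩, hf'⟩ := ht
  by_cases e : y = z
  · exact h.comm y s hs t (e ▸ ht)
  · exact h.commAB e hs (hf z hz) ht (hf' y hy)

theorem TT_conj (hy : y ∈ H) (hv : v ∈ V y) (ht : t ∈ h.TT hH) : v * t * v⁻¹ ∈ h.TT hH :=
  let ⟨⟨z, hz, ht⟩, hf⟩ := ht; ⟨⟨_, h.smul_mem hH hy hv hz, h.eqv v z t ht⟩, h.conj_fix hH hy hv hf⟩

theorem TT_cm (hy : y ∈ H) (hv : v ∈ V y) (ht : t ∈ h.TT hH) : v * t * v⁻¹ * t⁻¹ ∈ V y := by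
  simpa [mul_assoc] using mul_mem hv (h.eqv' (inv_mem hv) (ht.2 y hy))

theorem TT_trans (ho : o ∉ H) (hu : u ∉ H) : ∃ t ∈ h.TT hH, t • o = u := by
  by_cases e : o = u
  · exact ⟨1, one_mem _, by rw [one_smul, e]⟩
  obtain ⟨y, hy, k⟩ := hH.meet e
  obtain ⟨t, ht, hf, e1⟩ := h.transT hH hy ho (fun e : y = u => hu (e ▸ hy)) (h.col_rot e (fun e => ho (e ▸ hy)) k)
  exact ⟨t, ⟨⟨y, hy, ht⟩, hf⟩, e1⟩

theorem inv_aux {c : G} (hy : y ∈ H) (hz : z ∈ H) (hv : v ∈ V y) (hc : c ∈ V z) (e : v • z = c • y) (hne : v • z ≠ z)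
    (ht : t ∈ h.TT hH) (htz : t ∈ V z) (hs : s = v * t * v⁻¹ * t⁻¹) : c * s * c⁻¹ * s⁻¹ = t := by
  have hsT : s ∈ h.TT hH := hs ▸ mul_mem (h.TT_conj hH hy hv ht) (inv_mem ht)
  have h1 : c * s * c⁻¹ * (v * t * v⁻¹)⁻¹ ∈ V (v • z) :=
    mul_mem (e ▸ h.eqv c y s (hs ▸ h.TT_cm hH hy hv ht)) (inv_mem (h.eqv v z t htz))
  have h2 : v * t * v⁻¹ = t * s := by rw [← h.TT_comm hH hsT ht, hs, inv_mul_cancel_right]
  rw [h2, mul_inv_rev, ← mul_assoc] at h1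
  exact mul_inv_eq_one.1 (h.ti hne h1 (mul_mem (h.TT_cm hH hz hc hsT) (inv_mem htz)))

theorem cm_eq {c : G} (hy : y ∈ H) (hyz : y ≠ z) (hv : v ∈ V y) (hc : c ∈ V y) (e : c • z = v • z)
    (ht : t ∈ h.TT hH) (htz : t ∈ V z) : c * t * c⁻¹ = v * t * v⁻¹ := by
  have := h.commAB hyz (mul_mem (inv_mem hv) hc) (by rw [mul_smul, e, inv_smul_smul]) htz (ht.2 y hy)
  calc c * t * c⁻¹ = v * (v⁻¹ * c * t) * c⁻¹ := by group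
    _ = _ := by rw [this]; group

theorem tri_aux {c : G} (hy : y ∈ H) (hw : w ∈ H) (hyw : y ≠ w) (hyz : y ≠ z) (hwz : w ≠ z) (hn : ¬ Col V y z w)
    (hv : v ∈ V y) (hc : c ∈ V w) : ∃ v' ∈ V y, ∀ t ∈ h.TT hH, t ∈ V z → ∀ s, s = c * t * c⁻¹ * t⁻¹ →
      v * s * v⁻¹ * s⁻¹ = v' * t * v'⁻¹ * t⁻¹ := by
  have hn1 : ¬ Col V z w y := fun e => hn (h.col_rot hwz.symm hyz e)
  obtain ⟨v1, hv1, e1, e2⟩ := (h.count hwz.symm hn1).2.2 v hv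
  obtain ⟨c1, hc1, e3, e4⟩ := (h.count hyz hn).2.2 c hc
  have hv' : v1 * c1 * v1⁻¹ * c1⁻¹ ∈ V y := by simpa [mul_assoc] using mul_mem hv1 (h.eqv' (inv_mem hv1) e3)
  refine ⟨_, hv', fun t ht htz s hs => ?_⟩
  have hsT : s ∈ h.TT hH := hs ▸ mul_mem (h.TT_conj hH hw hc ht) (inv_mem ht)
  have hsw : s ∈ V w := hs ▸ h.TT_cm hH hw hc ht
  rw [← h.cm_eq hH hw hwz hc hc1 e4 ht htz] at hs
  rw [← h.cm_eq hH hy hyw hv hv1 e2 hsT hsw]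
  obtain ⟨r, hr⟩ : ∃ r, r = v1 * s * v1⁻¹ * s⁻¹ := ⟨_, rfl⟩
  have hrT : r ∈ h.TT hH := hr ▸ mul_mem (h.TT_conj hH hy hv1 hsT) (inv_mem hsT)
  have hry : r ∈ V y := hr ▸ h.TT_cm hH hy hv1 hsT
  have k1 : v1 * t = t * v1 := h.commAB hyz hv1 e1 htz (ht.2 y hy)
  have k2 : c1 * r = r * c1 := h.commAB hyw.symm hc1 e3 hry (hrT.2 w hw)
  have k3 := h.comm w c1 hc1 s hsw
  have k4 := h.comm y v1 hv1 r hry
  have k5 := h.TT_comm hH hrT hsT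
  have j1 : c1⁻¹ * t * c1 = s⁻¹ * t := by
    calc c1⁻¹ * t * c1 = c1⁻¹ * s⁻¹ * (s * t * c1) := by group
      _ = (s * c1)⁻¹ * (c1 * t) := by rw [hs]; group
      _ = _ := by rw [← k3]; group
  have j2 : v1⁻¹ * s⁻¹ * v1 = s⁻¹ * r := by
    calc v1⁻¹ * s⁻¹ * v1 = v1⁻¹ * (r * s)⁻¹ * (r * v1) := by group
      _ = v1⁻¹ * (r * s)⁻¹ * v1 * r := by rw [← k4]; group
      _ = _ := by rw [hr]; group
  rw [← hr]
  symm
  calc v1 * c1 * v1⁻¹ * c1⁻¹ * t * (v1 * c1 * v1⁻¹ * c1⁻¹)⁻¹ * t⁻¹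
      = v1 * c1 * v1⁻¹ * (c1⁻¹ * t * c1) * v1 * c1⁻¹ * v1⁻¹ * t⁻¹ := by group
    _ = v1 * c1 * v1⁻¹ * s⁻¹ * (t * v1) * c1⁻¹ * v1⁻¹ * t⁻¹ := by rw [j1]; group
    _ = v1 * c1 * (v1⁻¹ * s⁻¹ * v1) * (t * c1⁻¹ * t⁻¹ * c1) * c1⁻¹ * (t * v1⁻¹) * t⁻¹ := by rw [← k1]; group
    _ = v1 * (c1 * s⁻¹) * r * (t * (c1⁻¹ * t * c1)⁻¹) * c1⁻¹ * (t * v1⁻¹) * t⁻¹ := by rw [j2]; group
    _ = v1 * (s * c1⁻¹)⁻¹ * (r * s) * c1⁻¹ * (t * v1⁻¹) * t⁻¹ := by rw [j1]; group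
    _ = v1 * c1 * s⁻¹ * (s * r) * c1⁻¹ * (t * v1⁻¹) * t⁻¹ := by rw [k5]; group
    _ = v1 * (c1 * r) * c1⁻¹ * (v1 * t⁻¹)⁻¹ * t⁻¹ := by group
    _ = (v1 * r) * (t * v1) * v1⁻¹ * v1⁻¹ * t⁻¹ := by rw [k2]; group
    _ = r * v1 * (v1 * t) * v1⁻¹ * v1⁻¹ * t⁻¹ := by rw [k4, k1]
    _ = r * v1 * (v1 * t * v1⁻¹) * v1⁻¹ * t⁻¹ := by group
    _ = r * (v1 * t) * v1⁻¹ * t⁻¹ := by nth_rw 1 [k1]; group
    _ = r := by rw [k1]; group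

end OA

end Cfsg.Lib.PG
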