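import Cfsg.Agent.Lib.PG.Coord
import Cfsg.Agent.Lib.Linear.Simple
import Cfsg.Agent.Lib.Layer.FStar

/-! O'Nan's theorem: identification of the group generated by the elations. -/

set_option autoImplicit false
set_option linter.unusedSectionVars false

namespace Cfsg.Lib.PG

open Subgroup MulAction Module
open scoped LinearAlgebra.Projectivization

universe u

variable {G : Type u} {X : Type*} [Group G] [MulAction G X]

namespace Crd

variable {V : X → Subgroup G} {F : Type*} [Field F] {W : Type*} [AddCommGroup W] [Module F W] {π : W → X}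
  (hc : Crd V F π) {u w e : W}
include hc

theorem smul {c : F} (h : c • w ≠ 0) : π (c • w) = π w := ((hc.eq (right_ne_zero_of_smul h) h).2 ⟨c, rfl⟩).symm

theorem ne_of {f : Dual F W} (hu : u ≠ 0) (h0 : f u = 0) (h1 : f w ≠ 0) : π u ≠ π w := fun e => by
  obtain ⟨c, rfl⟩ := (hc.eq hu (fun k => h1 (by rw [k, map_zero]))).1 e
  exact h1 (by rw [map_smul, h0, smul_zero])

theorem col_add (hu : u ≠ 0) (hw : w ≠ 0) (hne : π u ≠ π w) {a b : F} (h : a • u + b • w ≠ 0) :
    Col V (π u) (π w) (π (a • u + b • w)) := (hc.col hu hw hne _).2 ⟨a, b, h, rfl⟩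

/-- The bijection with the projective space. -/
noncomputable def equiv : ℙ F W ≃ X := Equiv.ofBijective (fun x => π x.rep)
  ⟨fun x y e => by
    rw [← x.mk_rep, ← y.mk_rep, eq_comm, Projectivization.mk_eq_mk_iff']
    exact (hc.eq x.rep_nonzero y.rep_nonzero).1 e, fun x => by
    obtain ⟨w, hw, rfl⟩ := hc.sur x
    obtain ⟨a, e⟩ := Projectivization.exists_smul_eq_mk_rep F w hw
    exact ⟨.mk F w hw, ((hc.eq hw (Projectivization.rep_nonzero _)).2 ⟨a, e⟩).symm⟩⟩

theorem equiv_mk (hw : w ≠ 0) : hc.equiv (.mk F w hw) = π w :=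
  let ⟨a, e⟩ := Projectivization.exists_smul_eq_mk_rep F w hw
  ((hc.eq hw (Projectivization.rep_nonzero _)).2 ⟨a, e⟩).symm

end Crd

theorem ne_zero_of {F W : Type*} [Field F] [AddCommGroup W] [Module F W] {f : Dual F W} {w : W} (h : f w ≠ 0) :
    w ≠ 0 := fun k => h (by rw [k, map_zero])

theorem tv_ne_zero {F W : Type*} [Field F] [AddCommGroup W] [Module F W] {f : Dual F W} {w e : W} (he : f e = 0)
    (h : w ≠ 0) : w + f w • e ≠ 0 := fun k => h (by
  have := congrArg f k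
  rw [map_add, map_smul, he, smul_zero, add_zero, map_zero] at this
  rwa [this, zero_smul, add_zero] at k)

namespace OA

variable [Finite G] [Finite X] {p : ℕ} [hp : Fact p.Prime] {V : X → Subgroup G} (h : OA p V)
  {F : Type*} [Field F] {W : Type*} [AddCommGroup W] [Module F W] {π : W → X} (hc : Crd V F π)
  {u w w0 e e0 : W} {f : Dual F W} {a : G} {y : X}
include h hc

theorem tv_step (he0 : e0 ≠ 0) (ha : a ∈ V (π e0)) (hf : ∀ u ≠ 0, f u = 0 → a • π u = π u) (hf0 : f e0 = 0)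
    {c : F} (hw : f w = 1) (h1 : a • π w = π (w + c • e0)) (hu : f u = 0) (hu' : ∀ c : F, c • e0 ≠ u) :
    a • π (w + u) = π (w + u + c • e0) := by
  have u0 : u ≠ 0 := fun k => hu' 0 (by rw [k, zero_smul])
  have f1 : f (w + u) ≠ 0 := by simp [hw, hu]
  have f2 : f (w + c • e0) ≠ 0 := by simp [hw, hf0]
  have f3 : f w ≠ 0 := by simp [hw]
  obtain ⟨α, β, k1, e1⟩ := (hc.col he0 (ne_zero_of f1) (hc.ne_of he0 hf0 f1) _).1 (h.col_V ha col_right)
  have := h.col_smul a (hc.col_add u0 (ne_zero_of f3) (hc.ne_of u0 hu f3) (a := 1) (b := 1)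
    (by simpa [add_comm] using ne_zero_of f1))
  rw [one_smul, one_smul, add_comm u, hf u u0 hu, h1] at this
  obtain ⟨β', α', k2, e2⟩ := (hc.col u0 (ne_zero_of f2) (hc.ne_of u0 hu f2) _).1 this
  obtain ⟨d, e3⟩ := (hc.eq k1 k2).1 (e1.trans e2.symm)
  have e4 : d * β = α' := by simpa [hw, hu, hf0] using congrArg f e3
  have e5 : β' = α' := by
    by_contra hne
    refine hu' ((β' - α')⁻¹ * (d * α - α' * c)) ?_
    rw [mul_smul, inv_smul_eq_iff₀ (sub_ne_zero.2 hne)]
    subst e4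
    linear_combination (norm := module) e3
  have e6 : β' • u + α' • (w + c • e0) = α' • (w + u + c • e0) := by rw [e5]; module
  rw [← e2, e6, hc.smul (e6 ▸ k2)]

theorem tv_uniq (he0 : e0 ≠ 0) (ha : a ∈ V (π e0)) (hf : ∀ u ≠ 0, f u = 0 → a • π u = π u) (hf0 : f e0 = 0)
    {c : F} (hw : f w0 = 1) (h1 : a • π w0 = π (w0 + c • e0)) : ∀ w ≠ 0, a • π w = π (w + f w • c • e0) := by
  have f3 : f w0 ≠ 0 := by simp [hw]
  obtain ⟨z, hz⟩ := h.ex_ncol (hc.ne_of he0 hf0 f3)
  obtain ⟨v, v0, rfl⟩ := hc.sur z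
  have g1 : f (v - f v • w0) = 0 := by simp [hw]
  have g2 : ∀ c : F, c • e0 ≠ v - f v • w0 := fun c k => hz (by
    have e : c • e0 + f v • w0 = v := by rw [k, sub_add_cancel]
    exact e ▸ hc.col_add he0 (ne_zero_of f3) (hc.ne_of he0 hf0 f3) (e.symm ▸ v0))
  have key : ∀ u, f u = 0 → a • π (w0 + u) = π (w0 + u + c • e0) := fun u hu => by
    by_cases hu' : ∀ c : F, c • e0 ≠ u
    · exact h.tv_step hc he0 ha hf hf0 hw h1 hu hu'
    obtain ⟨d, rfl⟩ : ∃ d : F, d • e0 = u := by simpa using hu'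
    have := h.tv_step hc he0 ha hf hf0 (by simp [hw, g1]) (h.tv_step hc he0 ha hf hf0 hw h1 g1 g2)
      (u := d • e0 - (v - f v • w0)) (by rw [map_sub, hu, g1, sub_zero]) fun c k => g2 (d - c) (by rw [sub_smul, k]; abel)
    rwa [add_assoc w0, add_sub_cancel] at this
  intro w hw0
  by_cases k : f w = 0
  · rw [k, zero_smul, add_zero, hf w hw0 k]
  have e1 : w = f w • (w0 + ((f w)⁻¹ • w - w0)) := by rw [add_sub_cancel, smul_inv_smul₀ k]
  have e2 : w + f w • c • e0 = f w • (w0 + ((f w)⁻¹ • w - w0) + c • e0) := by rw [smul_add, ← e1]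
  have e3 := hc.smul (c := f w) (w := w0 + ((f w)⁻¹ • w - w0)) (by rwa [← e1])
  rw [e2, hc.smul (e2 ▸ tv_ne_zero (by simp [hf0]) hw0), ← key _ (by simp [hw, k]), ← e3, ← e1]

theorem exists_tv (ha : a ∈ V y) : ∃ (f : Dual F W) (e : W), f e = 0 ∧ ∀ w ≠ 0, a • π w = π (w + f w • e) := by
  by_cases h1 : a = 1
  · exact ⟨0, 0, rfl, fun w _ => by simp [h1]⟩
  obtain ⟨e0, he0, rfl⟩ := hc.sur y
  have hH := h.hyp_fix ha h1
  let U : Submodule F W :=
    { carrier := {w | w ≠ 0 → a • π w = π w}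
      zero_mem' := fun k => (k rfl).elim
      smul_mem' := fun c w hw k => by rw [hc.smul k]; exact hw (right_ne_zero_of_smul k)
      add_mem' := fun {u w} hu hw k => by
        by_cases u0 : u = 0
        · rw [u0, zero_add] at k ⊢; exact hw k
        by_cases w0 : w = 0
        · rw [w0, add_zero]; exact hu u0
        by_cases e : π u = π w
        · obtain ⟨c, rfl⟩ := (hc.eq u0 w0).1 e
          have e1 : u + c • u = (1 + c) • u := by module
          rw [e1] at k ⊢; rw [hc.smul k]; exact hu u0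
        · simpa using hH.sub e (hu u0) (hw w0) (hc.col_add u0 w0 e (a := 1) (b := 1) (by simpa using k)) }
  obtain ⟨o, ho⟩ := hH.ne
  obtain ⟨v, v0, rfl⟩ := hc.sur o
  obtain ⟨g, g0, hg⟩ := U.exists_dual_map_eq_bot_of_notMem (x := v) (fun k => ho (k v0)) inferInstance
  have hg : ∀ u ∈ U, g u = 0 := fun u hu => (Submodule.mem_bot F).1 (hg ▸ Submodule.mem_map_of_mem hu)
  have hf : ∀ u ≠ 0, g u = 0 → a • π u = π u := fun u u0 k => by
    obtain ⟨z, hz, k1⟩ := hH.meet (hc.ne_of u0 k g0)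
    obtain ⟨α, β, k2, rfl⟩ := (hc.col u0 v0 (hc.ne_of u0 k g0) _).1 k1
    have : β = 0 := by simpa [k, g0] using hg _ fun _ => hz
    rw [this, zero_smul, add_zero] at k2 hz
    rwa [hc.smul k2] at hz
  have g1 : g e0 = 0 := hg _ fun _ => h.fix _ a ha
  obtain ⟨α, β, k1, e1⟩ := (hc.col he0 v0 (hc.ne_of he0 g1 g0) _).1 (h.col_V ha col_right)
  have β0 : β ≠ 0 := fun k => by
    rw [k, zero_smul, add_zero] at k1 e1
    exact h.smul_ne ha (hc.ne_of he0 g1 g0) (hc.smul k1 ▸ e1)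
  have e2 : α • e0 + β • v = β • (v + (β⁻¹ * α) • e0) := by rw [mul_smul, smul_add, smul_inv_smul₀ β0, add_comm]
  refine ⟨(g v)⁻¹ • g, _, by simp [g1], h.tv_uniq hc he0 ha (fun u u0 k => hf u u0 (by simpa [g0] using k))
    (by simp [g1]) (c := β⁻¹ * α) (w0 := v) (by simp [g0]) (by rw [← e1, e2, hc.smul (e2 ▸ k1)])⟩

theorem tv_all (ha : a ∈ V y) (h1 : a ≠ 1) (f0 : f ≠ 0) (hf : ∀ u ≠ 0, f u = 0 → a • π u = π u) (he : e ≠ 0)
    (hfe : f e = 0) : ∃ b ∈ V (π e), ∀ w ≠ 0, b • π w = π (w + f w • e) := by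
  have hH := h.hyp_fix ha h1
  obtain ⟨w0, hw⟩ := LinearMap.surjective f0 1
  have f3 : f w0 ≠ 0 := by simp [hw]
  have ho : a • π w0 ≠ π w0 := fun k => h1 (h.faith a fun x => by
    obtain ⟨w, w1, rfl⟩ := hc.sur x
    have e1 : w = (1 : F) • (w - f w • w0) + f w • w0 := by simp
    by_cases k1 : w - f w • w0 = 0
    · rw [sub_eq_zero] at k1; rw [k1, hc.smul (k1 ▸ w1), k]
    have k2 : f (w - f w • w0) = 0 := by simp [hw]
    have k3 := hc.col_add k1 (ne_zero_of f3) (hc.ne_of k1 k2 f3) (a := 1) (b := f w) (by rwa [← e1])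
    rw [← e1] at k3
    exact h.fix_line ha (hc.ne_of k1 k2 f3) (hf _ k1 k2) k k3)
  have f4 : f ((1 : F) • e + (1 : F) • w0) ≠ 0 := by simp [hw, hfe]
  obtain ⟨t, ht, hfix, e1⟩ := h.transT hH (hf e he hfe) ho (hc.ne_of he hfe f4)
    (hc.col_add he (ne_zero_of f3) (hc.ne_of he hfe f3) (ne_zero_of f4))
  refine ⟨t, ht, fun w w1 => ?_⟩
  simpa using h.tv_uniq hc he ht (fun u u0 k => hfix _ (hf u u0 k)) hfe (c := 1) hw (by rw [e1, one_smul F w0, add_comm])
    w w1

theorem three_le [FiniteDimensional F W] : 3 ≤ finrank F W := by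
  obtain ⟨x, y, hxy, -⟩ := h.nsr
  obtain ⟨z, hz⟩ := h.ex_ncol hxy
  obtain ⟨u, u0, rfl⟩ := hc.sur x
  obtain ⟨w, w0, rfl⟩ := hc.sur y
  obtain ⟨v, v0, rfl⟩ := hc.sur z
  have h2 : LinearIndependent F ![u, w] := (LinearIndependent.pair_iff' u0).2 fun c k => hxy ((hc.eq u0 w0).2 ⟨c, k⟩)
  have h3 : LinearIndependent F (Fin.cons v ![u, w] : Fin 3 → W) := linearIndependent_finCons.2 ⟨h2, fun k => hz (by
    rw [Matrix.range_cons, Matrix.range_cons, Matrix.range_empty, Set.union_empty, Set.singleton_union,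
      Submodule.mem_span_pair] at k
    obtain ⟨a, b, rfl⟩ := k
    exact hc.col_add u0 w0 hxy v0)⟩
  simpa using h3.fintype_card_le_finrank

theorem all_tv [FiniteDimensional F W] (f : Dual F W) (he : e ≠ 0) (hfe : f e = 0) :
    ∃ b ∈ V (π e), ∀ w ≠ 0, b • π w = π (w + f w • e) := by
  let S : Submodule F (Dual F W) :=
    { carrier := {f | ∀ e ≠ 0, f e = 0 → ∃ b ∈ V (π e), ∀ w ≠ 0, b • π w = π (w + f w • e)}
      zero_mem' := fun e _ _ => ⟨1, one_mem _, fun w _ => by simp⟩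
      smul_mem' := fun c f hf e he k => by
        by_cases c0 : c = 0
        · exact ⟨1, one_mem _, fun w _ => by simp [c0]⟩
        obtain ⟨b, hb, k1⟩ := hf (c • e) (smul_ne_zero c0 he) (by simpa using k)
        exact ⟨b, hc.smul (smul_ne_zero c0 he) ▸ hb, fun w w0 => by simp [k1 w w0, smul_smul, mul_comm]⟩
      add_mem' := fun {f g} hf hg e he k => by
        by_cases k0 : f + g = 0
        · exact ⟨1, one_mem _, fun w _ => by simp [k0]⟩
        obtain ⟨e0, k1, he0⟩ := (Submodule.ne_bot_iff _).1 (LinearMap.ker_ne_bot_of_finrank_lt (f := f.prod g)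
          (by have := h.three_le hc; simp; omega))
        have f0 : f e0 = 0 := congrArg Prod.fst k1
        have g0 : g e0 = 0 := congrArg Prod.snd k1
        obtain ⟨a, ha, k2⟩ := hf e0 he0 f0
        obtain ⟨b, hb, k3⟩ := hg e0 he0 g0
        have k4 : ∀ w ≠ 0, (a * b) • π w = π (w + (f + g) w • e0) := fun w w0 => by
          rw [mul_smul, k3 w w0, k2 _ (tv_ne_zero g0 w0)]; congr 1; simp [f0]; module
        refine h.tv_all hc (mul_mem ha hb) (fun k5 => ?_) k0 (fun u u0 k => by rw [k4 u u0, k, zero_smul, add_zero]) he k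
        obtain ⟨w, hw⟩ := LinearMap.surjective k0 1
        have w0 : w ≠ 0 := ne_zero_of (hw ▸ one_ne_zero)
        have fg : (f + g) e0 = 0 := by simp [f0, g0]
        obtain ⟨c, k6⟩ := (hc.eq w0 (tv_ne_zero fg w0)).1 (by rw [← k4 w w0, k5, one_smul])
        have : c = 1 := by
          have := congrArg (f + g) k6
          rwa [map_smul, map_add, map_smul, fg, hw, smul_zero, add_zero, smul_eq_mul, mul_one] at this
        rw [this, hw, one_smul, one_smul, left_eq_add] at k6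
        exact he0 k6 }
  have : S = ⊤ := by
    rw [← S.span_eq]
    refine Submodule.span_eq_top_of_ne_zero fun z z0 => ?_
    obtain ⟨x, y, hxy, -⟩ := h.nsr
    have : Nontrivial X := ⟨_, _, hxy⟩
    obtain ⟨y, hy⟩ := exists_ne (π z)
    obtain ⟨a, ha, k⟩ := h.ex_move hy
    obtain ⟨g, e, -, k1⟩ := h.exists_tv hc ha
    have g0 : g z ≠ 0 := fun k2 => k (by rw [k1 z z0, k2, zero_smul, add_zero])
    exact ⟨g, fun e' he' k2 => h.tv_all hc ha (fun e => k (by rw [e, one_smul])) (fun e => g0 (by rw [e]; rfl))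
      (fun u u0 k => by rw [k1 u u0, k, zero_smul, add_zero]) he' k2, g0⟩
  exact (this ▸ Submodule.mem_top : f ∈ S) e he hfe

omit hc in
theorem exists_hom {n : ℕ} {π : (Fin n → F) → X} (hc : Crd V F π) :
    ∃ ψ : Matrix.SpecialLinearGroup (Fin n) F →* G, (∀ M, ∀ w ≠ 0, ψ M • π w = π (M • w)) ∧ ψ.range = ⨆ x, V x := by
  have uq : ∀ {g g' : G}, (∀ w ≠ 0, g • π w = g' • π w) → g = g' := fun k =>
    inv_mul_eq_one.1 (h.faith _ fun x => by
      obtain ⟨w, w0, rfl⟩ := hc.sur x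
      rw [mul_smul, ← k w w0, inv_smul_smul])
  have hR : ∀ M : Matrix.SpecialLinearGroup (Fin n) F, ∃ g ∈ ⨆ x, V x, ∀ w ≠ 0, g • π w = π (M • w) := by
    refine Linear.sl_transvection_induction _ ⟨1, one_mem _, by simp⟩ (fun i j hij c => ?_)
      fun A B ⟨a, ha, k⟩ ⟨b, hb, k'⟩ => ⟨a * b, mul_mem ha hb, fun w w0 => by
        rw [mul_smul, k' w w0, k _ ((smul_ne_zero_iff_ne B).2 w0), mul_smul]⟩
    obtain ⟨b, hb, k⟩ := h.all_tv hc (c • LinearMap.proj j) (e := Pi.single i 1) (by simp) (by simp [hij.symm])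
    refine ⟨b, mem_iSup_of_mem _ hb, fun w w0 => (k w w0).trans (congrArg π (funext fun l => ?_))⟩
    rw [Linear.sl_transvection_smul_apply]; simp [Pi.single_apply]
  choose ψ hψ k using hR
  refine ⟨MonoidHom.mk' ψ fun A B => uq fun w w0 => by
    rw [mul_smul, k B w w0, k _ _ ((smul_ne_zero_iff_ne B).2 w0), k _ w w0, mul_smul], k,
    le_antisymm (by rintro _ ⟨M, rfl⟩; exact hψ M) (iSup_le fun x a ha => ?_)⟩
  obtain ⟨f, e, k1, k2⟩ := h.exists_tv hc ha
  refine ⟨⟨LinearMap.toMatrix' (LinearMap.transvection f e), by simp [k1]⟩, uq fun w w0 => ?_⟩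
  rw [k2 w w0]
  exact (k _ w w0).trans (congrArg π (LinearMap.toMatrix'_mulVec _ w))

omit hc in
theorem main : ∃ (L : Subgroup G) (F : Type) (_ : Field F) (_ : Fintype F) (n : ℕ), 3 ≤ n ∧ L.Normal ∧
    centralizer (L : Set G) = ⊥ ∧ Nonempty (L ≃* Matrix.ProjectiveSpecialLinearGroup (Fin n) F) ∧
    Nat.card X * (Fintype.card F - 1) = Fintype.card F ^ n - 1 := by
  obtain ⟨F, _, _, n, π, hc⟩ := h.exists_crd
  obtain ⟨ψ, k, e⟩ := h.exists_hom hc
  refine ⟨⨆ x, V x, F, inferInstance, inferInstance, n, by simpa using h.three_le hc, ⟨fun a ha g => ?_⟩,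
    eq_bot_iff.2 fun g hg => h.faith g fun x => ?_, ⟨?_⟩, ?_⟩
  · exact (iSup_le fun x b hb => mem_iSup_of_mem _ (h.eqv g x b hb) :
      ⨆ x, V x ≤ (⨆ x, V x).comap (MulAut.conj g).toMonoidHom) ha
  · obtain ⟨x', y', hxy, -⟩ := h.nsr
    have : Nontrivial X := ⟨_, _, hxy⟩
    obtain ⟨y, hy⟩ := exists_ne x
    obtain ⟨a, ha, h1, -⟩ := h.ex_A hy.symm
    exact h.fix_of_comm ha h1 (hg a (mem_iSup_of_mem _ ha)).symm
  · refine (MulEquiv.subgroupCongr e.symm).trans ((QuotientGroup.quotientKerEquivRange ψ).symm.trans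
      (QuotientGroup.quotientMulEquivOfEq ?_))
    rw [← Projectivization.SL_mulAction_ker]
    ext M
    rw [MonoidHom.mem_ker, MonoidHom.mem_ker]
    refine ⟨fun k1 => Equiv.ext fun x => hc.equiv.injective ?_, fun k1 => h.faith _ fun x => ?_⟩
    · induction x using Projectivization.ind with | h w w0 => ?_
      rw [toPermHom_apply, toPerm_apply, Equiv.Perm.one_apply, Projectivization.smul_mk, hc.equiv_mk, hc.equiv_mk, ← k M w w0, k1, one_smul]
    · obtain ⟨w, w0, rfl⟩ := hc.sur x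
      have := DFunLike.congr_fun k1 (.mk F w w0)
      rw [toPermHom_apply, toPerm_apply, Equiv.Perm.one_apply, Projectivization.smul_mk] at this
      rw [k M w w0, ← hc.equiv_mk w0, ← this, hc.equiv_mk]
  · rw [← Nat.card_congr hc.equiv, ← Nat.card_eq_fintype_card, ← Projectivization.card]; simp

end OA

theorem fstar_eq_of_psl [Finite G] {N : Subgroup G} [N.Normal] {F : Type*} [Field F] {n : ℕ} (hn : 3 ≤ n)
    (e : N ≃* Matrix.ProjectiveSpecialLinearGroup (Fin n) F) (hc : centralizer (N : Set G) = ⊥) :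
    generalizedFittingSubgroup G = N := by
  have : Nontrivial (Fin n) := Fin.nontrivial_iff_two_le.2 (by omega)
  have := Linear.psl_isSimpleGroup (ι := Fin n) (F := F) (Or.inl (by simpa using hn))
  have hs : IsSimpleGroup N := e.isSimpleGroup
  have key : ∀ M : Subgroup G, M.Normal → M ≠ ⊥ → N ≤ M := fun M _ hM =>
    subgroupOf_eq_top.1 ((hs.eq_bot_or_eq_top_of_normal (M.subgroupOf N) inferInstance).resolve_left fun e => hM (by
      rw [eq_bot_iff, ← hc, ← commutator_eq_bot_iff_le_centralizer, eq_bot_iff, ← disjoint_iff.1 (subgroupOf_eq_bot.1 e)]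
      exact commutator_le_inf M N))
  have := Layer.fit_solvable (G := G)
  have := N.subtype_injective.nontrivial
  have h : fittingSubgroup G = ⊥ := by
    by_contra h
    have := Group.isSolvable_of_isSolvable_injective (inclusion_injective (key _ Layer.fit_normal h))
    refine Linear.psl_not_isMulCommutative (ι := Fin n) (F := F) ⟨⟨fun a b => e.symm.injective ?_⟩⟩
    rw [map_mul, map_mul]; exact IsSimpleGroup.comm_iff_isSolvable.2 this _ _
  exact le_antisymm (Layer.fstar_le_of_centralizer_le (Normal.isSubnormal ‹_›) (h ▸ bot_le) (hc ▸ bot_le))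
    (key _ Layer.fstar_normal Layer.fstar_ne_bot)

/-- The `p`-torsion of the conjugates of an abelian normal subgroup of a point stabiliser. -/
theorem exists_oa [Finite G] (h2 : IsMultiplyPretransitive G X 2) (hf : ∀ g : G, (∀ x : X, g • x = x) → g = 1) {x : X}
    {N : Subgroup G} (hle : ∀ n ∈ N, n • x = x) (hn : ∀ g, g • x = x → ∀ n ∈ N, g * n * g⁻¹ ∈ N)
    (hab : ∀ a ∈ N, ∀ b ∈ N, a * b = b * a) {n : G} (h0 : n ∈ N) (h1 : n ≠ 1) {y : X} (hy : y ≠ x) (hny : n • y = y) :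
    ∃ (p : ℕ) (_ : Fact p.Prime) (V : X → Subgroup G), OA p V ∧
      ∀ z, ∀ a ∈ V z, ∃ g : G, g • x = z ∧ g⁻¹ * a * g ∈ N := by
  obtain ⟨p, hp, m, hm⟩ : ∃ p : ℕ, p.Prime ∧ ∃ m, orderOf n = m * p := by
    obtain ⟨p, hp, m, hm⟩ := Nat.exists_prime_and_dvd (fun e => h1 (orderOf_eq_one_iff.1 e))
    exact ⟨p, hp, m, hm.trans (mul_comm _ _)⟩
  have tw : Two G X := fun _ _ _ _ h h' => is_two_pretransitive_iff.1 h2 h h'
  have tr : ∀ z, ∃ g : G, g • x = z := fun z => by
    have : Nontrivial X := ⟨_, _, hy⟩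
    obtain ⟨w, hw⟩ := exists_ne z
    exact (tw x y z w hy.symm hw.symm).imp fun _ => And.left
  have cm : ∀ {z a b}, (∀ g : G, g • x = z → g⁻¹ * a * g ∈ N) → (∀ g : G, g • x = z → g⁻¹ * b * g ∈ N) →
      a * b = b * a := fun {z a b} ha hb => by
    obtain ⟨g, e⟩ := tr z
    have := hab _ (ha g e) _ (hb g e)
    simp only [← mul_assoc, mul_inv_cancel_right, mul_left_inj] at this
    simpa [mul_assoc] using this
  refine ⟨p, ⟨hp⟩, fun z =>
    { carrier := {a | a ^ p = 1 ∧ ∀ g : G, g • x = z → g⁻¹ * a * g ∈ N}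
      one_mem' := ⟨one_pow p, fun g _ => by simp⟩
      inv_mem' := fun ha => ⟨by rw [inv_pow, ha.1, inv_one], fun g e => by simpa [mul_assoc] using inv_mem (ha.2 g e)⟩
      mul_mem' := fun ha hb => ⟨by rw [Commute.mul_pow (cm ha.2 hb.2), ha.1, hb.1, one_mul],
        fun g e => by simpa [mul_assoc] using mul_mem (ha.2 g e) (hb.2 g e)⟩ },
    ⟨tw, hf, fun g z a ha => ⟨by rw [conj_pow, ha.1, mul_one, mul_inv_cancel], fun k e => ?_⟩, fun z a ha => ?_,
      fun z a ha b hb => cm ha.2 hb.2, fun z a ha => ha.1, x, y, hy.symm, n ^ m,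
      ⟨by rw [← pow_mul, ← hm, pow_orderOf_eq_one], fun g e => by simpa using hn g⁻¹ (inv_fix e) _ (pow_mem h0 m)⟩,
      pow_ne_one_of_lt_orderOf (fun e => by simp [e, (orderOf_pos n).ne'] at hm) ?_, pow_mem (show n ∈ stabilizer G y from hny) m⟩,
    fun z a ha => let ⟨g, e⟩ := tr z; ⟨g, e, ha.2 g e⟩⟩
  · simpa [mul_assoc] using ha.2 (g⁻¹ * k) (by rw [mul_smul, e, inv_smul_smul])
  · obtain ⟨g, rfl⟩ := tr z
    have := hle _ (ha.2 g rfl)
    rwa [mul_smul, mul_smul, inv_smul_eq_iff] at this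
  · have := orderOf_pos n
    have := hp.two_le
    rw [hm] at *; nlinarith [Nat.pos_of_mul_pos_right ‹0 < m * p›]

end Cfsg.Lib.PG
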