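import Cfsg.Agent.Lib.PG.Homol
import Cfsg.Agent.Lib.PG.Design
import Cfsg.Agent.Lib.PG.PSL

/-! The Ostrom-Wagner theorem. -/

set_option autoImplicit false
set_option linter.unusedSectionVars false

namespace Cfsg.Lib.PG

open Subgroup MulAction

variable {G P L : Type*} [Group G] [MulAction G P] [MulAction G L]

theorem exists_derang [Finite G] [Finite P] [Nontrivial P] [IsPretransitive G P] : ∃ g : G, ∀ s : P, g • s ≠ s := by
  classical
  have := Fintype.ofFinite G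
  have := Fintype.ofFinite P
  by_contra k
  have e := sum_card_fixedBy_eq_card_orbits_mul_card_group G P
  have := (pretransitive_iff_subsingleton_quotient G P).1 inferInstance
  have h1 : Fintype.card (orbitRel.Quotient G P) ≤ 1 := Fintype.card_le_one_iff_subsingleton.2 this
  have h2 : ∑ _g : G, 1 < ∑ g : G, Fintype.card (fixedBy P g) := Finset.sum_lt_sum (fun g _ => by
    obtain ⟨s, hs⟩ : ∃ s : P, g • s = s := by simpa using not_exists.1 k g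
    exact Fintype.card_pos_iff.2 ⟨⟨s, hs⟩⟩) ⟨1, Finset.mem_univ _, by simpa using Fintype.one_lt_card⟩
  rw [e, Finset.sum_const, Finset.card_univ, smul_eq_mul, mul_one] at h2
  nlinarith

theorem dvd_card_of_orbits' [Finite P] {q : ℕ} (h : ∀ s : P, q ∣ (stabilizer G s).index) : q ∣ Nat.card P := by
  classical
  have := Fintype.ofFinite (orbitRel.Quotient G P)
  rw [Nat.card_congr (selfEquivSigmaOrbits G P), Nat.card_sigma]
  exact Finset.dvd_sum fun ω _ => (h ω.out).trans (index_stabilizer G _).dvd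

theorem syl_dvd [Finite G] [Finite P] {r a : ℕ} (hr : r.Prime) {K S : Subgroup G} (hSK : S ≤ K) (hS : ¬ r ∣ S.relIndex K)
    {y : P} (hd : r ^ a ∣ (orbit K y).ncard) : r ^ a ∣ (orbit S y).ncard := by
  rw [← index_stabilizer] at hd ⊢
  change _ ∣ (stabilizer G y).relIndex _ at hd ⊢
  rw [← inf_relIndex_right]
  refine (Nat.Coprime.pow_left a ((Nat.Prime.coprime_iff_not_dvd hr).2 hS)).dvd_of_dvd_mul_right ?_
  rw [relIndex_mul_relIndex _ _ _ inf_le_right hSK,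
    ← relIndex_mul_relIndex _ (stabilizer G y ⊓ K) K (inf_le_inf_left _ hSK) inf_le_right, inf_relIndex_right]
  exact hd.mul_left _

theorem orbit_eq_of {K : Subgroup G} {Ω : Set P} {y : P} (h1 : ∀ g ∈ K, g • y ∈ Ω) (h2 : ∀ u ∈ Ω, ∃ g ∈ K, g • y = u) :
    orbit K y = Ω :=
  Set.ext fun u => ⟨by rintro ⟨g, rfl⟩; exact h1 g g.2, fun hu => let ⟨g, hg, e⟩ := h2 u hu; ⟨⟨g, hg⟩, e⟩⟩

/-- The full collineation group. -/
def ColG (I : P → L → Prop) : Subgroup (Equiv.Perm P × Equiv.Perm L) where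
  carrier := {x | ∀ p l, I (x.1 p) (x.2 l) ↔ I p l}
  one_mem' := fun _ _ => Iff.rfl
  mul_mem' := fun hx hy p l => (hx _ _).trans (hy p l)
  inv_mem' := fun {x} hx p l => by simpa using (hx (x.1⁻¹ p) (x.2⁻¹ l)).symm

instance (I : P → L → Prop) : MulAction (ColG I) P := compHom P ((MonoidHom.fst _ _).comp (ColG I).subtype)

instance (I : P → L → Prop) : MulAction (ColG I) L := compHom L ((MonoidHom.snd _ _).comp (ColG I).subtype)

theorem Pl.ca {I : P → L → Prop} {n : ℕ} (h : Pl I n) : CA (ColG I) I n :=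
  { h with
    inv := fun g => g.2
    faith := fun g k => Subtype.ext (Prod.ext (Equiv.ext k) (Equiv.ext fun l => by
      obtain ⟨p, h1, -⟩ := h.pt l l
      obtain ⟨q, h2, h3, -⟩ := h.ex3 l p p
      exact h.leq (k q ▸ (g.2 q l).2 h2) (k p ▸ (g.2 p l).2 h1) h2 h1 h3)) }

/-- Fixed points. -/
abbrev Fx (T : Subgroup G) (P : Type*) [MulAction G P] := {p : P // ∀ t ∈ T, t • p = p}

/-- Restricted incidence. -/
abbrev rI (I : P → L → Prop) (T : Subgroup G) : Fx T P → Fx T L → Prop := fun p l => I p.1 l.1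

/-- The action of a normalising element on the fixed points. -/
def fxPerm (T : Subgroup G) (P : Type*) [MulAction G P] {s : G} (h : ∀ t, s * t * s⁻¹ ∈ T ↔ t ∈ T) :
    Equiv.Perm (Fx T P) where
  toFun p := ⟨s • p.1, fun t ht => by
    rw [← mul_smul, show t * s = s * (s⁻¹ * t * s) by group, mul_smul, p.2 _ ((h _).1 (by simpa [mul_assoc] using ht))]⟩
  invFun p := ⟨s⁻¹ • p.1, fun t ht => by
    rw [← mul_smul, show t * s⁻¹ = s⁻¹ * (s * t * s⁻¹) by group, mul_smul, p.2 _ ((h _).2 ht)]⟩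
  left_inv p := Subtype.ext (inv_smul_smul s p.1)
  right_inv p := Subtype.ext (smul_inv_smul s p.1)

/-- `T` fixes a subplane of order `m`. -/
structure Sub (I : P → L → Prop) (T : Subgroup G) (m : ℕ) : Prop where
  pc : ∀ l, (∀ t ∈ T, t • l = l) → {p | I p l ∧ ∀ t ∈ T, t • p = p}.ncard = m + 1
  lc : ∀ p, (∀ t ∈ T, t • p = p) → {l | I p l ∧ ∀ t ∈ T, t • l = l}.ncard = m + 1
  two : 2 ≤ m
  ne : ∃ p : P, ∀ t ∈ T, t • p = p

theorem Sub.ex {I : P → L → Prop} {T : Subgroup G} {m : ℕ} (h : Sub I T m) {p : P} (hp : ∀ t ∈ T, t • p = p) :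
    ∃ l, I p l ∧ ∀ t ∈ T, t • l = l := Set.nonempty_of_ncard_ne_zero ((h.lc p hp).trans_ne m.succ_ne_zero)

theorem Sub.dual {I : P → L → Prop} {T : Subgroup G} {m : ℕ} (h : Sub I T m) : Sub (dl I) T m :=
  ⟨h.lc, h.pc, h.two, let ⟨_, hp⟩ := h.ne; (h.ex hp).imp fun _ => And.right⟩

theorem ncard_fx {T : Subgroup G} (R : Fx T P → Prop) (R' : P → Prop) (h : ∀ p, R' p ↔ ∃ k, R ⟨p, k⟩) :
    {p | R p}.ncard = {p | R' p}.ncard := by
  rw [← Set.ncard_image_of_injective _ Subtype.val_injective]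
  exact congrArg _ (Set.ext fun p => by simp [h])

namespace CA

variable {I : P → L → Prop} {n : ℕ} (h : CA G I n) [Finite G] [Finite P] [Finite L]
include h

theorem sub_line {T : Subgroup G} {m : ℕ} (hs : Sub I T m) (p q : Fx T P) : ∃ l, rI I T p l ∧ rI I T q l := by
  by_cases e : p = q
  · obtain ⟨l, h1, h2⟩ := hs.ex p.2
    exact ⟨⟨l, h2⟩, h1, e ▸ h1⟩
  · obtain ⟨l, h1, h2⟩ := h.line p.1 q.1
    exact ⟨⟨l, fun t ht => h.fix_line h1 h2 (fun k => e (Subtype.ext k)) (p.2 t ht) (q.2 t ht)⟩, h1, h2⟩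

theorem sub_pl {T : Subgroup G} {m : ℕ} (hs : Sub I T m) : Pl (rI I T) m :=
  ⟨h.sub_line hs, h.dual.sub_line hs.dual, fun h1 h2 h3 h4 => (h.uq h1 h2 h3 h4).imp Subtype.ext Subtype.ext,
    fun l => (ncard_fx _ (fun p => I p l.1 ∧ ∀ t ∈ T, t • p = p)
      fun _ => ⟨fun k => ⟨k.2, k.1⟩, fun ⟨k, k1⟩ => ⟨k1, k⟩⟩).trans (hs.pc l.1 l.2),
    fun l => (ncard_fx _ (fun p => I l.1 p ∧ ∀ t ∈ T, t • p = p)
      fun _ => ⟨fun k => ⟨k.2, k.1⟩, fun ⟨k, k1⟩ => ⟨k1, k⟩⟩).trans (hs.lc l.1 l.2), hs.two, let ⟨p, k⟩ := hs.ne; ⟨⟨p, k⟩⟩⟩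

theorem hm_fix (tw : Two G P) {T : Subgroup G} {j m e : ℕ} (hT : Nat.card T = 2 ^ j) (hs : Sub I T m) (he : n = m ^ 2 ^ e)
    (hmax : ∀ (T' : Subgroup G) (m e : ℕ), Nat.card T' = 2 ^ (j + 1) → Sub I T' m → n ≠ m ^ 2 ^ e)
    {Γ : Type*} [Group Γ] [MulAction Γ (Fx T P)] [MulAction Γ (Fx T L)] (hc : CA Γ (rI I T) m)
    (hl : ∀ s : G, (∀ t, s * t * s⁻¹ ∈ T ↔ t ∈ T) → ∃ σ : Γ, (∀ p : Fx T P, (σ • p).1 = s • p.1) ∧
      ∀ l : Fx T L, (σ • l).1 = s • l.1) (x y : Fx T P) (hxy : x ≠ y) :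
    ∃ (g : Γ) (c : Fx T P) (a : Fx T L), Hm (rI I T) g c a ∧ g • x = x ∧ g • y = y := by
  classical
  have step : ∀ T' : Subgroup G, Nat.card T' = 2 ^ (j + 1) → T ≤ T' → ∃ s ∈ T', (∀ t ∈ T', t ∈ T ∨ s⁻¹ * t ∈ T) ∧
      ∃ σ : Γ, σ * σ = 1 ∧ (∀ p : Fx T P, (σ • p).1 = s • p.1) ∧ ∀ l : Fx T L, (σ • l).1 = s • l.1 := fun T' h1 h2 => by
    have h3 : (T.subgroupOf T').index = 2 := by
      have := (T.subgroupOf T').card_mul_index
      rw [card_subgroupOf_of_le' h2, hT, h1, pow_succ] at this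
      exact Nat.eq_of_mul_eq_mul_left (by positivity) this
    obtain ⟨s, -, hs⟩ := SetLike.exists_of_lt (lt_top_iff_ne_top.2 fun e : T.subgroupOf T' = ⊤ => by simp [e] at h3)
    have hN := normal_of_index_eq_two h3
    obtain ⟨σ, k1, k2⟩ := hl s fun t => ⟨fun k => by
      simpa [mem_subgroupOf, mul_assoc] using hN.conj_mem' ⟨_, h2 k⟩ k s, fun k => hN.conj_mem ⟨_, h2 k⟩ k s⟩
    refine ⟨s, s.2, fun t ht => or_iff_not_imp_left.2 fun k => (mul_mem_iff_of_index_two h3 (a := s⁻¹) (b := ⟨t, ht⟩)).2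
      (iff_of_false (by rwa [inv_mem_iff]) k), σ, hc.faith _ fun p => Subtype.ext ?_, k1, k2⟩
    rw [mul_smul, k1, k1, ← mul_smul]
    exact p.2 _ (mul_self_mem_of_index_two h3 s)
  have hK : ∀ {u w : P}, u ≠ w → Nat.card (stabilizer G (u, w)) = Nat.card (stabilizer G (x.1, y.1)) := fun k =>
    tw.card_eq (F := fun u w => stabilizer G (u, w)) (fun g u w n hn => by
      rw [mem_stabilizer_iff, ← Prod.smul_mk, conj_smul, hn]) k fun e => hxy (Subtype.ext e)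
  have hTK : T ≤ stabilizer G (x.1, y.1) := fun t ht => Prod.ext (x.2 t ht) (y.2 t ht)
  have d1 : 2 ^ (j + 1) ∣ Nat.card G := by
    have := Fintype.ofFinite P
    rw [← (stabilizer G (x.1, y.1)).card_mul_index, pow_succ, ← hT, index_stabilizer]
    refine mul_dvd_mul (card_dvd_of_le hTK) ?_
    have : orbit G (x.1, y.1) = (Finset.univ : Finset P).offDiag := Set.ext fun ⟨u, w⟩ => ⟨by
      rintro ⟨g, k⟩; cases k; simpa using fun e => hxy (Subtype.ext e), fun k => by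
      obtain ⟨g, e1, e2⟩ := tw x y u w (fun e => hxy (Subtype.ext e)) (by simpa using k)
      exact ⟨g, Prod.ext e1 e2⟩⟩
    rw [this, Set.ncard_coe_finset, Finset.offDiag_card, ← Nat.mul_sub_one]
    exact (Nat.even_mul_pred_self _).two_dvd
  obtain ⟨T1, k1, k2⟩ := Sylow.exists_subgroup_card_pow_succ d1 hT
  obtain ⟨s, -, k3, σ, k4, k5, -⟩ := step T1 k1 k2
  obtain ⟨u, w, k6, k7, k8⟩ := hc.two_fixed k4
  have fx : ∀ {T' : Subgroup G} {s : G} {X : Type _} [MulAction G X] {p : X}, (∀ t ∈ T', t ∈ T ∨ s⁻¹ * t ∈ T) →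
      (∀ t ∈ T, t • p = p) → s • p = p → ∀ t ∈ T', t • p = p := fun k h1 h2 t ht =>
    (k t ht).elim (h1 t) fun e => by rw [← mul_inv_cancel_left _ t, mul_smul, h1 _ e, h2]
  have fx' : ∀ {T' : Subgroup G} {s : G} {X : Type _} [MulAction G X] {p : X}, (∀ t ∈ T', t ∈ T ∨ s⁻¹ * t ∈ T) →
      (∀ t ∈ T, t • p = p) → s • p = p → ∀ t ∈ T', t • p = p := fun k h1 h2 t ht =>
    (k t ht).elim (h1 t) fun e => by rw [← mul_inv_cancel_left _ t, mul_smul, h1 _ e, h2]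
  have d2 : 2 ^ (j + 1) ∣ Nat.card (stabilizer G (x.1, y.1)) := by
    rw [← hK fun e => k6 (Subtype.ext e), ← k1]
    exact card_dvd_of_le fun t ht => Prod.ext (fx k3 u.2 (by rw [← k5, k7]) t ht) (fx k3 w.2 (by rw [← k5, k8]) t ht)
  obtain ⟨T2, k9, k10⟩ := Sylow.exists_subgroup_card_pow_succ d2 ((card_subgroupOf_of_le' hTK).trans hT)
  have j1 : Nat.card (T2.map (Subgroup.subtype _)) = 2 ^ (j + 1) := (card_map_of_injective (subtype_injective _)).trans k9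
  have j2 : T ≤ T2.map (Subgroup.subtype _) := fun t ht => ⟨⟨t, hTK ht⟩, k10 ht, rfl⟩
  obtain ⟨_, ⟨s, hs2, rfl⟩, j3, σ, j4, j5, j6⟩ := step _ j1 j2
  have j7 : σ • x = x := Subtype.ext ((j5 x).trans (congrArg Prod.fst s.2))
  have j8 : σ • y = y := Subtype.ext ((j5 y).trans (congrArg Prod.snd s.2))
  have key : ∀ t, 2 ≤ t → (∀ l, σ • l = l → {p | rI I T p l ∧ σ • p = p}.ncard = t + 1) →
      (∀ p, σ • p = p → {l | rI I T p l ∧ σ • l = l}.ncard = t + 1) → Sub I (T2.map (Subgroup.subtype _)) t :=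
    fun t h1 h2 h3 => ⟨fun l hl => (ncard_fx _ _ fun p => ⟨fun k => ⟨fun t ht => k.2 t (j2 ht), k.1,
        Subtype.ext ((j5 _).trans (k.2 _ ⟨s, hs2, rfl⟩))⟩, fun ⟨k, k1, k2⟩ => ⟨k1, fx j3 k
          ((j5 ⟨p, k⟩).symm.trans (congrArg Subtype.val k2))⟩⟩).symm.trans
        (h2 ⟨l, fun t ht => hl t (j2 ht)⟩ (Subtype.ext ((j6 _).trans (hl _ ⟨s, hs2, rfl⟩)))),
      fun l hl => (ncard_fx _ _ fun p => ⟨fun k => ⟨fun t ht => k.2 t (j2 ht), k.1,
        Subtype.ext ((j6 _).trans (k.2 _ ⟨s, hs2, rfl⟩))⟩, fun ⟨k, k1, k2⟩ => ⟨k1, fx' j3 k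
          ((j6 ⟨p, k⟩).symm.trans (congrArg Subtype.val k2))⟩⟩).symm.trans
        (h3 ⟨l, fun t ht => hl t (j2 ht)⟩ (Subtype.ext ((j5 _).trans (hl _ ⟨s, hs2, rfl⟩)))), h1,
      x, fx j3 x.2 (congrArg Prod.fst s.2)⟩
  have j9 : σ ≠ 1 := fun k => hmax _ m e j1 (key m hs.two (fun l _ => by simpa [k] using hc.pc l)
    fun p _ => by simpa [k] using hc.lc p) he
  by_contra k
  obtain ⟨t, i1, i2, i3, -⟩ := hc.baer j4 fun a ha => let ⟨c, hc'⟩ := hc.exists_ce ha; k ⟨σ, c, a, ⟨j4, j9, hc', ha⟩, j7, j8⟩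
  exact hmax _ t (e + 1) j1 (key t (by have := hs.two; nlinarith) i2 i3) (by rw [he, ← i1, pow_succ', pow_mul, sq])

theorem pp_of_odd (tw : Two G P) (tw' : Two G L) (hn : Odd n) : ∃ r k : ℕ, r.Prime ∧ n = r ^ k := by
  obtain ⟨j, h1, h2⟩ := Nat.exists_not_and_succ_of_not_zero_of_exists
    (p := fun j => ¬ ∃ (T : Subgroup G) (m e : ℕ), Nat.card T = 2 ^ j ∧ Sub I T m ∧ n = m ^ 2 ^ e)
    (not_not.2 ⟨⊥, n, 0, by simp, ⟨fun l _ => by simpa using h.pc l, fun l _ => by simpa using h.lc l, h.two,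
      by simpa using h.ne⟩, by simp⟩)
    ⟨Nat.card G, fun ⟨T, _, _, e, _⟩ => (Nat.lt_two_pow_self.trans_le (e ▸ T.card_le_card_group)).false⟩
  obtain ⟨T, m, e, hT, hs, he⟩ := not_not.1 h1
  have hc := (h.sub_pl hs).ca
  have hm : Odd m := (Nat.odd_pow_iff (by positivity)).1 (he ▸ hn)
  have hl : ∀ s : G, (∀ t, s * t * s⁻¹ ∈ T ↔ t ∈ T) → ∃ σ : ColG (rI I T), (∀ p : Fx T P, (σ • p).1 = s • p.1) ∧
      ∀ l : Fx T L, (σ • l).1 = s • l.1 := fun s k =>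
    ⟨⟨(fxPerm T P k, fxPerm T L k), fun p l => h.inv s p.1 l.1⟩, fun _ => rfl, fun _ => rfl⟩
  obtain ⟨r, k, hr, e1⟩ := hc.pp_of_hm hm
    (hc.all_axis hm (h.hm_fix tw hT hs he (fun T' m e k1 k2 k3 => h2 ⟨T', m, e, k1, k2, k3⟩) hc hl))
    fun c => (hc.dual.all_axis hm (h.dual.hm_fix tw' hT hs.dual he (fun T' m e k1 k2 k3 => h2 ⟨T', m, e, k1, k2.dual, k3⟩)
      hc.dual fun s k => (hl s k).imp fun _ => And.symm) c).imp fun _ => Exists.imp fun _ => Hm.dual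
  exact ⟨r, _, hr, by rw [he, e1, ← pow_mul]⟩

theorem flag_trans (tw : Two G P) {x x' : P} {l l' : L} (h1 : I x l) (h2 : I x' l') : ∃ g : G, g • x = x' ∧ g • l = l' := by
  obtain ⟨y, h3, h4, -⟩ := h.ex3 l x x
  obtain ⟨y', h5, h6, -⟩ := h.ex3 l' x' x'
  obtain ⟨g, rfl, rfl⟩ := tw x y x' y' h4.symm h6.symm
  exact ⟨g, rfl, h.leq ((h.inv g _ _).2 h1) ((h.inv g _ _).2 h3) h2 h5 h6.symm⟩

omit h in
theorem exists_central {r : ℕ} [Fact r.Prime] {S : Subgroup G} (hS : IsPGroup r S) (h1 : S ≠ ⊥) :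
    ∃ z ∈ S, z ≠ 1 ∧ z ^ r = 1 ∧ ∀ g ∈ S, g * z = z * g := by
  have := (nontrivial_iff_ne_bot S).2 h1
  have := hS.center_nontrivial
  obtain ⟨k, k0, hk⟩ := (hS.to_subgroup (center S)).nontrivial_iff_card.1 this
  obtain ⟨z, hz⟩ := exists_prime_orderOf_dvd_card' (G := center S) r (hk ▸ dvd_pow_self r k0.ne')
  refine ⟨z, z.1.2, fun e => ?_, ?_, fun g hg => congrArg Subtype.val (mem_center_iff.1 z.2 ⟨g, hg⟩)⟩
  · rw [show z = 1 from Subtype.ext (Subtype.ext e), orderOf_one] at hz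
    exact (Fact.out : r.Prime).one_lt.ne hz
  · exact congrArg (·.1.1) (hz ▸ pow_orderOf_eq_one z)

theorem el_of_even (tw : Two G P) (hn : Even n) : ∃ (g : G) (c : P) (a : L), g ≠ 1 ∧ Ax I g a ∧ Ce I g c ∧ I c a := by
  obtain ⟨x⟩ := h.ne
  obtain ⟨l, hx, -⟩ := h.line x x
  obtain ⟨Q⟩ : Nonempty (Sylow 2 (stabilizer G (x, l))) := inferInstance
  let S := Q.1.map (Subgroup.subtype _)
  have hSK : S ≤ stabilizer G (x, l) := map_subtype_le _
  have hS : IsPGroup 2 S := Q.2.map _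
  obtain ⟨a, n', h1, h2⟩ := Nat.exists_eq_two_pow_mul_odd (n := n) (by have := h.two; omega)
  have hd : ∀ y, I y l → y ≠ x → 2 ^ a ∣ (orbit S y).ncard := fun y hy hne => by
    refine syl_dvd Nat.prime_two hSK (by
      rw [relIndex, subgroupOf, comap_map_eq_self_of_injective (subtype_injective _)]; exact Q.not_dvd_index) ?_
    rw [orbit_eq_of (Ω := {q | I q l ∧ q ≠ x}) (fun g hg => ⟨h.mem hy (congrArg Prod.snd hg), fun e =>
      hne (smul_left_cancel g (e.trans (congrArg Prod.fst hg).symm))⟩) fun u hu => by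
        obtain ⟨g, e1, e2⟩ := tw x y x u hne.symm hu.2.symm
        exact ⟨g, Prod.ext e1 (h.leq (h.mem' hx e1) (e2 ▸ (h.inv g _ _).2 hy) hx hu.1 hu.2.symm), e2⟩, h.pc' hx, h2]
    exact dvd_mul_right _ _
  have a0 : a ≠ 0 := fun e => by simp [e] at h2; exact Nat.not_odd_iff_even.2 hn (h2 ▸ h1)
  obtain ⟨y, hy, hne, -⟩ := h.ex3 l x x
  obtain ⟨z, hz, z1, z2, hc⟩ := exists_central hS fun e => by
    have := (dvd_pow_self 2 a0).trans ((hd y hy hne).trans ((index_stabilizer S y).symm.dvd.trans (index_dvd_card _)))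
    simp [e] at this
  rw [sq] at z2
  by_cases k : ∃ b, Ax I z b
  · obtain ⟨b, hb⟩ := k
    obtain ⟨c, hc⟩ := h.exists_ce hb
    refine ⟨z, c, b, z1, hb, hc, by_contra fun k => ?_⟩
    obtain ⟨m, h3, -⟩ := h.line c c
    obtain ⟨w, h4, h5⟩ := h.pt m b
    have := ncard_modEq' (p := 2) (by rwa [sq]) (S := {q | I q m ∧ q ≠ c}) fun s hs => ⟨h.mem hs.1 (hc m h3), fun e =>
      hs.2 (smul_left_cancel z (e.trans (h.dual.ax_fix hc).symm))⟩
    rw [h.pc' h3, show {s ∈ {q | I q m ∧ q ≠ c} | z • s = s} = {w} from Set.ext fun s => ⟨fun hs =>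
      h.peq hs.1.1 h4 ((h.fix_cases z1 hb hc hs.2).resolve_left hs.1.2) h5 fun e => k (e ▸ h3),
      fun e => e ▸ ⟨⟨h4, fun e => k (e ▸ h5)⟩, hb w h5⟩⟩, Set.ncard_singleton] at this
    exact Nat.not_odd_iff_even.2 hn (Nat.odd_iff.2 this)
  obtain ⟨t, e, h3, -⟩ := h.baer z2 (not_exists.1 k)
  let F : SubMulAction S P := ⟨{p | I p l ∧ z • p = p} \ {x}, fun g p hp => ⟨⟨h.mem hp.1.1 (congrArg Prod.snd (hSK g.2)),
    by rw [Subgroup.smul_def, ← mul_smul, ← hc g g.2, mul_smul, hp.1.2]⟩,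
    fun e => hp.2 (smul_left_cancel (g : G) (e.trans (congrArg Prod.fst (hSK g.2)).symm))⟩⟩
  have h4 : 2 ^ a ∣ Nat.card F := dvd_card_of_orbits' (G := S) fun s => by
    rw [show stabilizer S s = stabilizer S s.1 from Subgroup.ext fun g => Subtype.ext_iff, index_stabilizer]
    exact hd _ s.2.1.1 s.2.2
  have h5 : Nat.card F = t := (Set.ncard_sdiff_singleton_of_mem (s := {p | I p l ∧ z • p = p})
    ⟨hx, congrArg Prod.fst (hSK hz)⟩).trans (by rw [h3 l (congrArg Prod.snd (hSK hz))]; rfl)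
  obtain ⟨s, rfl⟩ := h5 ▸ h4
  have h6 : n' = 2 ^ a * s * s := Nat.eq_of_mul_eq_mul_left (pow_pos two_pos a) (by rw [← h2, ← e]; ring)
  exact (h1.not_two_dvd_nat (h6 ▸ ((dvd_pow_self 2 a0).mul_right _).mul_right _)).elim

theorem off_trans {r e : ℕ} (hr : r.Prime) (hn : n = r ^ e) (cP : Nat.card P = n ^ 2 + n + 1)
    (an : ∀ u l u' l', ¬ I u l → ¬ I u' l' → ∃ g : G, g • u = u' ∧ g • l = l') {S : Subgroup G} (hS : ¬ r ∣ S.index)
    {l : L} (hl : ∀ g ∈ S, g • l = l) {u u' : P} (hu : ¬ I u l) (hu' : ¬ I u' l) : ∃ g ∈ S, g • u = u' := by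
  have e1 : {p | ¬ I p l}.ncard = r ^ (e * 2) := by
    have := Set.ncard_add_ncard_compl {p | I p l}
    rw [h.pc, cP] at this
    rw [pow_mul, ← hn]; change ({p | I p l}ᶜ).ncard = _; omega
  have k : ∀ g : G, g • l = l → ¬ I (g • u) l := fun g hg k => hu ((h.inv g _ _).1 (hg.symm ▸ k))
  have e2 := syl_dvd hr (K := stabilizer G l) hl (fun k => hS (k.trans (relIndex_dvd_index_of_le hl))) (y := u) (a := e * 2)
    (by rw [orbit_eq_of (Ω := {p | ¬ I p l}) k fun w hw => (an u l w l hu hw).imp fun _ => And.symm, e1])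
  have e3 : orbit S u = {p | ¬ I p l} := Set.eq_of_subset_of_ncard_le (by rintro _ ⟨g, rfl⟩; exact k g (hl g g.2))
    (e1 ▸ Nat.le_of_dvd (Set.ncard_pos (Set.toFinite _) |>.2 ⟨u, mem_orbit_self u⟩) e2)
  obtain ⟨g, hg⟩ : u' ∈ orbit S u := e3 ▸ hu'
  exact ⟨g, g.2, hg⟩

theorem fix_eq (tw : Two G P) (hc : Nat.card P = Nat.card L) (g : G) : Nat.card (fixedBy P g) = Nat.card (fixedBy L g) :=
  tw.fix_eq I h.inv hc (fun p => (h.line p p).imp fun _ => And.left)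
    (fun p => let ⟨l, k, _⟩ := h.toPl.dual.off2 p p; ⟨l, k, (h.pt l l).imp fun _ => And.left⟩) g

theorem el_of_pp (tw : Two G P) {r e : ℕ} (hr : r.Prime) (hn : n = r ^ e) (cP : Nat.card P = n ^ 2 + n + 1)
    (cL : Nat.card L = n ^ 2 + n + 1) : ∃ (g : G) (c : P) (a : L), g ≠ 1 ∧ Ax I g a ∧ Ce I g c ∧ I c a := by
  by_contra ne
  have := Fact.mk hr
  have hf := h.fix_eq tw (cP.trans cL.symm)
  have aux : ∀ {u m g u' l'}, I u m → (g : G) • (u, m) = (u', l') → I u' l' := fun {u m g _ _} hm e => by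
    obtain ⟨rfl, rfl⟩ := Prod.ext_iff.1 e
    exact (h.inv g u m).2 hm
  have an : ∀ u l u' l', ¬ I u l → ¬ I u' l' → ∃ g : G, g • u = u' ∧ g • l = l' := fun u l u' l' k k' => by
    obtain ⟨m, hm, -⟩ := h.line u u
    obtain ⟨g, e⟩ := tw.rank (L := P × L) (fun g => by rw [card_fixedBy_prod, ← hf, sq]) (a := (u, m)) (b := (u, l))
      (c := (u', l')) (fun g e => k (aux hm e)) fun g e => k' (aux hm e)
    exact ⟨g, congrArg Prod.fst e, congrArg Prod.snd e⟩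
  have T1 : ∀ {S : Subgroup G}, ¬ r ∣ S.index → ∀ {l : L}, (∀ g ∈ S, g • l = l) → ∀ {u u' : P}, ¬ I u l → ¬ I u' l →
      ∃ g ∈ S, g • u = u' := fun hS _ hl _ _ hu hu' => h.off_trans hr hn cP an hS hl hu hu'
  have T2 : ∀ {S : Subgroup G}, ¬ r ∣ S.index → ∀ {l : P}, (∀ g ∈ S, g • l = l) → ∀ {u u' : L}, ¬ I l u → ¬ I l u' →
      ∃ g ∈ S, g • u = u' := fun hS _ hl _ _ hu hu' => h.dual.off_trans hr hn cL
    (fun u l u' l' k k' => (an l u l' u' k k').imp fun _ => And.symm) hS hl hu hu'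
  have two_off : ∀ l c, ∃ u, ¬ I u l ∧ u ≠ c := fun l c => by
    obtain ⟨m, hm, -⟩ := h.line c c
    obtain ⟨u, h1, h2⟩ := h.off2 l m
    exact ⟨u, h1, fun e => h2 (e ▸ hm)⟩
  have rn : r ∣ n := hn ▸ dvd_pow_self r fun e => by have := h.two; simp [e] at hn; omega
  have nd : ¬ r ∣ n ^ 2 + n + 1 := fun k =>
    hr.one_lt.ne' (Nat.dvd_one.1 ((Nat.dvd_add_right (dvd_add (rn.trans (dvd_pow_self n two_ne_zero)) rn)).1 k))
  have ex : ∀ x l, I x l → ∀ U : Subgroup G, IsPGroup r U → U ≤ stabilizer G (x, l) →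
      ∃ S : Subgroup G, IsPGroup r S ∧ ¬ r ∣ S.index ∧ U ≤ S ∧ S ≤ stabilizer G (x, l) := fun x l hx U hU hle => by
    obtain ⟨Q0⟩ : Nonempty (Sylow r G) := inferInstance
    obtain ⟨x0, h1⟩ := Q0.2.nonempty_fixed_point_of_prime_not_dvd_card P (cP ▸ nd)
    obtain ⟨l0, h2⟩ := Q0.2.nonempty_fixed_point_of_prime_not_dvd_card L (cL ▸ nd)
    have h3 : I x0 l0 := by_contra fun k => by
      obtain ⟨u, h4, h5⟩ := two_off l0 x0
      obtain ⟨g, hg, e⟩ := T1 Q0.not_dvd_index (fun g hg => h2 ⟨g, hg⟩) k h4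
      exact h5 (e.symm.trans (h1 ⟨g, hg⟩))
    obtain ⟨g, e1, e2⟩ := h.flag_trans tw h3 hx
    obtain ⟨Q, hQ⟩ := (hU.comap_subtype (K := stabilizer G (x, l))).exists_le_sylow
    refine ⟨Q.1.map (Subgroup.subtype _), Q.2.map _, fun k => ?_, fun u hu => ⟨⟨u, hle hu⟩, hQ hu, rfl⟩, map_subtype_le _⟩
    rw [index_map_subtype, hr.dvd_mul, index_stabilizer, show orbit G (x, l) = orbit G (x0, l0) by
      rw [← e1, ← e2, ← Prod.smul_mk, orbit_smul], ← index_stabilizer] at k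
    exact k.elim Q.not_dvd_index fun k => Q0.not_dvd_index (k.trans (index_dvd_of_le fun g hg =>
      Prod.ext (h1 ⟨g, hg⟩) (h2 ⟨g, hg⟩)))
  obtain ⟨x⟩ := h.ne
  obtain ⟨l, hx, -⟩ := h.line x x
  obtain ⟨y, hy, hne, -⟩ := h.ex3 l x x
  obtain ⟨S, hS, h1, -, h2⟩ := ex y l hy ⊥ IsPGroup.of_bot bot_le
  let Λ : SubMulAction ↥(S ⊓ stabilizer G x) L := ⟨{m | I x m ∧ m ≠ l}, fun g m hm => ⟨h.mem' hm.1 g.2.2, fun e =>
    hm.2 (smul_left_cancel (g : G) (e.trans (congrArg Prod.snd (h2 g.2.1)).symm))⟩⟩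
  have : IsPretransitive ↥(S ⊓ stabilizer G x) Λ := ⟨fun m m' => by
    have k : ∀ m : Λ, ¬ I y m := fun m k => m.2.2 (h.leq k m.2.1 hy hx hne)
    obtain ⟨g, hg, e⟩ := T2 h1 (fun g hg => congrArg Prod.fst (h2 hg)) (k m) (k m')
    exact ⟨⟨g, hg, h.peq (e ▸ (h.inv g _ _).2 m.2.1) m'.2.1 (h.mem hx (congrArg Prod.snd (h2 hg))) hx m'.2.2⟩,
      Subtype.ext e⟩⟩
  have : Nontrivial Λ := by
    obtain ⟨m, h3, h4, -⟩ := h.toPl.dual.ex3 x l l
    obtain ⟨m', h5, h6, h7⟩ := h.toPl.dual.ex3 x l m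
    exact ⟨⟨m', h5, h6⟩, ⟨m, h3, h4⟩, fun e => h7 (congrArg Subtype.val e)⟩
  obtain ⟨⟨φ, hφ, φx⟩, hd⟩ := exists_derang (G := ↥(S ⊓ stabilizer G x)) (P := Λ)
  have φy : φ • y = y := congrArg Prod.fst (h2 hφ)
  have φl : φ • l = l := congrArg Prod.snd (h2 hφ)
  obtain ⟨S', hS', h3, h4, h5⟩ := ex x l hx (zpowers φ) (hS.to_le (zpowers_le.2 hφ)) (zpowers_le.2 (Prod.ext φx φl))
  have s1 : ∀ g ∈ S', g • x = x := fun g hg => congrArg Prod.fst (h5 hg)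
  have s2 : ∀ g ∈ S', g • l = l := fun g hg => congrArg Prod.snd (h5 hg)
  obtain ⟨z, hz, z1, -, hc⟩ := exists_central hS' fun e => by
    obtain ⟨u, k1, -⟩ := two_off l x
    obtain ⟨u', k2, k3⟩ := two_off l u
    obtain ⟨g, hg, e1⟩ := T1 h3 s2 k1 k2
    rw [e, mem_bot] at hg
    exact k3 (by rw [← e1, hg, one_smul])
  have nf : ∀ w, I w l → w ≠ x → z • w ≠ w := fun w hw k e => by
    have ha : Ax I z l := fun w' hw' => by
      by_cases k' : w' = x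
      · rw [k', s1 z hz]
      obtain ⟨m, k1, k2, -⟩ := h.toPl.dual.ex3 w l l
      obtain ⟨m', k3, k4, -⟩ := h.toPl.dual.ex3 w' l l
      obtain ⟨g, hg, e1⟩ := T2 h3 s1 (fun j => k2 (h.leq k1 j hw hx k)) fun j => k4 (h.leq k3 j hw' hx k')
      rw [← h.peq (e1 ▸ (h.inv g _ _).2 k1) k3 (h.mem hw (s2 g hg)) hw' k4, ← mul_smul, ← hc g hg, mul_smul, e]
    obtain ⟨c, k1⟩ := h.exists_ce ha
    refine ne ⟨z, c, l, z1, ha, k1, by_contra fun k2 => ?_⟩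
    obtain ⟨u, k3, k4⟩ := two_off l c
    obtain ⟨g, hg, rfl⟩ := T1 h3 s2 k2 k3
    exact z1 (h.one_of_ce (by simpa [hc g hg] using h.dual.ax_conj k1 g) k1 k4)
  obtain ⟨m, k1, k2⟩ := exists_ne_fixed (hf φ) hne φy φx l
  by_cases k3 : I x m
  · exact hd ⟨m, k3, k1⟩ (Subtype.ext k2)
  obtain ⟨w, k4, k5⟩ := h.pt m l
  have k6 : w ≠ x := fun e => k3 (e ▸ k4)
  have k7 : z • m ≠ m := fun e => nf w k5 k6 (h.fix_pt k4 k5 k1 e (s2 z hz))
  obtain ⟨u, k8, k9⟩ := h.pt m (z • m)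
  have j1 : ¬ I u l := fun j => nf w k5 k6 (by
    rw [h.peq k8 k4 j k5 k1] at k9
    exact h.peq ((h.inv z _ _).2 k4) k9 (h.mem k5 (s2 z hz)) k5 fun e => k1 (smul_left_cancel z (e.trans (s2 z hz).symm)))
  have j2 : φ • u = u := h.fix_pt k9 k8 k7 (by rw [← mul_smul, hc φ (h4 (mem_zpowers φ)), mul_smul, k2]) k2
  obtain ⟨m', j3, j4⟩ := h.line x u
  exact hd ⟨m', j3, fun e => j1 (e ▸ j4)⟩ (Subtype.ext (h.fix_line j3 j4 (fun e => j1 (e ▸ hx)) φx j2))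

theorem exists_oa (tw : Two G P) (cP : Nat.card P = n ^ 2 + n + 1) (cL : Nat.card L = n ^ 2 + n + 1) :
    ∃ (r : ℕ) (_ : Fact r.Prime), OA r h.dual.TA := by
  obtain ⟨g, c, a, g1, h1, h2, h3⟩ : ∃ (g : G) (c : P) (a : L), g ≠ 1 ∧ Ax I g a ∧ Ce I g c ∧ I c a := by
    rcases Nat.even_or_odd n with k | k
    · exact h.el_of_even tw k
    · obtain ⟨r, e, hr, hn⟩ := h.pp_of_odd tw (tw.dual (h.fix_eq tw (cP.trans cL.symm))) k
      exact h.el_of_pp tw hr hn cP cL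
  obtain ⟨a', h4, h5, -⟩ := h.toPl.dual.ex3 c a a
  obtain ⟨k, h6, rfl⟩ := h.flag_trans tw h3 h4
  obtain ⟨hc, r, hr, hp⟩ := h.dual.elem h2 h3 h1 (h.dual.ax_conj' h2 h6) h4 (h.ax_conj h1 k) h5.symm g1 (by simpa using g1)
  have eqv : ∀ (g : G) x, ∀ n ∈ h.dual.TA x, g * n * g⁻¹ ∈ h.dual.TA (g • x) := fun g x n ⟨k1, b, k2, k3⟩ =>
    ⟨h.dual.ax_conj k1 g, g • b, (h.inv g _ _).2 k2, h.ax_conj k3 g⟩
  have tr : ∀ x, ∃ g : G, g • x = c := fun x => let ⟨l, k, _⟩ := h.line x x; (h.flag_trans tw k h3).imp fun _ => And.left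
  obtain ⟨y, h7, h8, -⟩ := h.ex3 a c c
  refine ⟨r, ⟨hr⟩, tw, h.faith, eqv, fun x n hn => h.dual.ax_fix hn.1, fun x s hs t ht => ?_, fun x s hs => ?_,
    c, y, h8.symm, g, ⟨h2, a, h3, h1⟩, g1, h1 y h7⟩
  · obtain ⟨g, rfl⟩ := tr x
    have := hc _ (eqv g x s hs) _ (eqv g x t ht)
    simp only [← mul_assoc, inv_mul_cancel_right, mul_left_inj] at this
    simpa [mul_assoc] using this
  · obtain ⟨g, rfl⟩ := tr x
    simpa [conj_pow] using hp _ (eqv g x s hs)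

theorem col_iff {r : ℕ} [Fact r.Prime] (ho : OA r h.dual.TA) {x y z : P} {l : L} (hxy : x ≠ y) (hx : I x l) (hy : I y l) :
    Col h.dual.TA x y z ↔ I z l := ⟨fun k => by
  by_cases e : x = z
  · exact e ▸ hx
  · obtain ⟨v, hv, rfl⟩ := ho.trans hxy e k
    exact h.mem hy (hv.1 l hx), fun k g ⟨h1, b, h2, h3⟩ e => by
  by_cases g1 : g = 1
  · rw [g1, one_smul]
  · exact h3 z (h.leq hx hy h2 ((h.fix_cases g1 h3 h1 e).resolve_left hxy.symm) hxy ▸ k)⟩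

end CA

end Cfsg.Lib.PG
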