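import Cfsg.Agent.Lib.PG.Core

/-! Collineations of finite projective planes: perspectivities and Baer involutions. -/

set_option autoImplicit false
set_option linter.unusedSectionVars false

namespace Cfsg.Lib.PG

open Subgroup MulAction

variable {G P L : Type*} [Group G] [MulAction G P] [MulAction G L]

theorem ncard_modEq {p : ℕ} [Fact p.Prime] [Finite P] {U : Subgroup G} (hU : IsPGroup p U) {S : Set P}
    (hS : ∀ g ∈ U, ∀ s ∈ S, g • s ∈ S) : S.ncard ≡ {s ∈ S | ∀ g ∈ U, g • s = s}.ncard [MOD p] := by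
  let S' : SubMulAction U P := ⟨S, fun g _ hs => hS g g.2 _ hs⟩
  have := hU.card_modEq_card_fixedPoints S'
  rw [Nat.card_coe_set_eq (fixedPoints U S'), ← Set.ncard_image_of_injective _ Subtype.val_injective] at this
  refine this.trans (congrArg (· % p) (congrArg Set.ncard (Set.ext fun s => Iff.symm ?_)))
  exact ⟨fun ⟨h1, h2⟩ => ⟨⟨s, h1⟩, fun g => Subtype.ext (h2 g g.2), rfl⟩,
    by rintro ⟨s, h, rfl⟩; exact ⟨s.2, fun g hg => congrArg Subtype.val (h ⟨g, hg⟩)⟩⟩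

theorem ncard_modEq' {p : ℕ} [Fact p.Prime] [Finite P] {g : G} (hg : g ^ p = 1) {S : Set P}
    (hS : ∀ s ∈ S, g • s ∈ S) : S.ncard ≡ {s ∈ S | g • s = s}.ncard [MOD p] := by
  have hU : IsPGroup p (zpowers g) := by
    rintro ⟨_, k, rfl⟩
    exact ⟨1, Subtype.ext (by
      rw [pow_one, SubgroupClass.coe_pow, ← zpow_natCast, ← zpow_mul, mul_comm, zpow_mul, zpow_natCast, hg, one_zpow]; rfl)⟩
  have h1 : ∀ k : ℕ, ∀ s ∈ S, g ^ k • s ∈ S := fun k s hs => by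
    induction k with
    | zero => simpa using hs
    | succ k ih => rw [pow_succ', mul_smul]; exact hS _ ih
  have h0 : IsOfFinOrder g := isOfFinOrder_iff_pow_eq_one.2 ⟨p, (Fact.out : p.Prime).pos, hg⟩
  convert ncard_modEq hU (S := S) (fun u hu => by
    obtain ⟨k, rfl⟩ := (h0.mem_powers_iff_mem_zpowers.2 hu); exact h1 k) using 4 with s
  exact and_congr_right fun _ => ⟨fun e u hu => (zpowers_le (H := stabilizer G s)).2 e hu, fun e => e g (mem_zpowers g)⟩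

/-- A projective plane of order `n`. -/
structure Pl (I : P → L → Prop) (n : ℕ) : Prop where
  line : ∀ p q, ∃ l, I p l ∧ I q l
  pt : ∀ l m, ∃ p, I p l ∧ I p m
  uq : ∀ {p q l m}, I p l → I q l → I p m → I q m → p = q ∨ l = m
  pc : ∀ l, {p | I p l}.ncard = n + 1
  lc : ∀ p, {l | I p l}.ncard = n + 1
  two : 2 ≤ n
  ne : Nonempty P

/-- The dual incidence relation. -/
abbrev dl (I : P → L → Prop) : L → P → Prop := fun l p => I p l

namespace Pl

variable {I : P → L → Prop} {n : ℕ} (h : Pl I n) {p q : P} {l m : L}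
include h

theorem dual : Pl (dl I) n :=
  ⟨h.pt, h.line, fun h1 h2 h3 h4 => (h.uq h1 h3 h2 h4).symm, h.lc, h.pc, h.two,
    let ⟨p⟩ := h.ne; let ⟨l, _⟩ := h.line p p; ⟨l⟩⟩

theorem leq (h1 : I p l) (h2 : I q l) (h3 : I p m) (h4 : I q m) (hne : p ≠ q) : l = m := (h.uq h1 h2 h3 h4).resolve_left hne

theorem peq (h1 : I p l) (h2 : I q l) (h3 : I p m) (h4 : I q m) (hne : l ≠ m) : p = q := (h.uq h1 h2 h3 h4).resolve_right hne

theorem ex3 (l : L) (a b : P) : ∃ p, I p l ∧ p ≠ a ∧ p ≠ b := by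
  by_contra k
  have : {p | I p l} ⊆ {a, b} := fun p hp => by_contra fun e => k ⟨p, hp, not_or.1 e⟩
  have h1 := (Set.ncard_le_ncard this).trans (Set.ncard_insert_le _ _)
  have := h.two
  rw [h.pc, Set.ncard_singleton] at h1; omega

theorem off2 (l m : L) : ∃ p, ¬ I p l ∧ ¬ I p m := by
  obtain ⟨x, h1, h2⟩ := h.pt l m
  obtain ⟨k, h3, h4, h5⟩ := h.dual.ex3 x l m
  obtain ⟨p, h6, h7, -⟩ := h.ex3 k x x
  exact ⟨p, fun e => h7 (h.peq h6 h3 e h1 h4), fun e => h7 (h.peq h6 h3 e h2 h5)⟩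

theorem pc' (hp : I p l) : {q | I q l ∧ q ≠ p}.ncard = n := by
  have := Set.ncard_sdiff_singleton_of_mem (s := {p | I p l}) hp
  rw [h.pc] at this; exact this

end Pl

/-- `a` is an axis of `g`. -/
def Ax (I : P → L → Prop) (g : G) (a : L) : Prop := ∀ p, I p a → g • p = p

/-- `c` is a centre of `g`. -/
abbrev Ce (I : P → L → Prop) (g : G) (c : P) : Prop := Ax (dl I) g c

theorem Ax.mul {I : P → L → Prop} {g g' : G} {a : L} (h : Ax I g a) (h' : Ax I g' a) : Ax I (g * g') a :=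
  fun p hp => by rw [mul_smul, h' p hp, h p hp]

theorem Ax.inv {I : P → L → Prop} {g : G} {a : L} (h : Ax I g a) : Ax I g⁻¹ a := fun p hp => inv_fix (h p hp)

theorem Ax.pow {I : P → L → Prop} {g : G} {a : L} (h : Ax I g a) (k : ℕ) : Ax I (g ^ k) a :=
  fun p hp => pow_mem (show g ∈ stabilizer G p from h p hp) k

/-- A collineation group of a projective plane. -/
structure CA (G : Type*) [Group G] [MulAction G P] [MulAction G L] (I : P → L → Prop) (n : ℕ) : Prop extends Pl I n where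
  inv : ∀ (g : G) p l, I (g • p) (g • l) ↔ I p l
  faith : ∀ g : G, (∀ p : P, g • p = p) → g = 1

/-- Involutory perspectivities. -/
structure Hm (I : P → L → Prop) (g : G) (c : P) (a : L) : Prop where
  sq : g * g = 1
  ne : g ≠ 1
  ce : Ce I g c
  ax : Ax I g a

theorem Hm.dual {I : P → L → Prop} {g : G} {c : P} {a : L} (h : Hm I g c a) : Hm (dl I) g a c := ⟨h.sq, h.ne, h.ax, h.ce⟩

namespace CA

variable {I : P → L → Prop} {n : ℕ} (h : CA G I n) {p q c c' u : P} {l m a a' : L} {g g' z : G}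
include h

theorem mem (hp : I p l) (hg : g • l = l) : I (g • p) l := by simpa [hg] using (h.inv g p l).2 hp

theorem mem' (hp : I p l) (hg : g • p = p) : I p (g • l) := by simpa [hg] using (h.inv g p l).2 hp

theorem fix_line (h1 : I p l) (h2 : I q l) (hne : p ≠ q) (hp : g • p = p) (hq : g • q = q) : g • l = l :=
  h.leq (h.mem' h1 hp) (h.mem' h2 hq) h1 h2 hne

theorem fix_pt (h1 : I p l) (h2 : I p m) (hne : l ≠ m) (hl : g • l = l) (hm : g • m = m) : g • p = p :=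
  h.peq (h.mem h1 hl) h1 (h.mem h2 hm) h2 hne

theorem dual : CA G (dl I) n :=
  { h.toPl.dual with
    inv := fun g l p => h.inv g p l
    faith := fun g k => h.faith g fun p => by
      obtain ⟨l, h1, -⟩ := h.line p p
      obtain ⟨m, h2, h3, -⟩ := h.toPl.dual.ex3 p l l
      exact h.fix_pt h2 h1 h3 (k m) (k l) }

theorem ax_fix (ha : Ax I g a) : g • a = a := by
  obtain ⟨p, h1, -⟩ := h.pt a a
  obtain ⟨q, h2, h3, -⟩ := h.ex3 a p p
  exact h.fix_line h2 h1 h3 (ha q h2) (ha p h1)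

theorem ax_conj (ha : Ax I g a) (k : G) : Ax I (k * g * k⁻¹) (k • a) := fun p hp => by
  rw [mul_smul, mul_smul, ha _ ((h.inv k _ _).1 (by simpa using hp)), smul_inv_smul]

theorem ax_conj' (ha : Ax I g a) {k : G} (hk : k • a = a) : Ax I (k * g * k⁻¹) a := by
  simpa [hk] using h.ax_conj ha k

theorem ce_of_fix (ha : Ax I g a) (hc : ¬ I c a) (hg : g • c = c) : Ce I g c := fun l hl =>
  let ⟨p, h1, h2⟩ := h.pt l a; h.fix_line hl h1 (fun e => hc (e ▸ h2)) hg (ha p h2)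

theorem one_of_ce (h1 : Ce I g c) (h2 : Ce I g c') (hne : c ≠ c') : g = 1 := by
  obtain ⟨l, k1, k2⟩ := h.line c c'
  have key : ∀ p, ¬ I p l → g • p = p := fun p hp => by
    obtain ⟨m, k3, k4⟩ := h.line c p
    obtain ⟨m', k5, k6⟩ := h.line c' p
    exact h.fix_pt k4 k6 (fun e => hp (h.leq k3 (e ▸ k5) k1 k2 hne ▸ k4)) (h1 m k3) (h2 m' k5)
  refine h.faith g fun p => ?_
  by_cases hp : I p l
  · obtain ⟨m, k3, k4, -⟩ := h.toPl.dual.ex3 p l l
    obtain ⟨u, k5, k6, -⟩ := h.ex3 m p p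
    obtain ⟨w, k7, k8, k9⟩ := h.ex3 m p u
    exact h.fix_pt k3 hp k4 (h.fix_line k7 k5 k9 (key w fun e => k8 (h.peq k7 k3 e hp k4))
      (key u fun e => k6 (h.peq k5 k3 e hp k4))) (h1 l k1)
  · exact key p hp

theorem one_of_ax (h1 : Ax I g a) (h2 : Ax I g a') (hne : a ≠ a') : g = 1 := h.dual.one_of_ce h1 h2 hne

theorem exists_ce (ha : Ax I g a) : ∃ c, Ce I g c := by
  by_cases k : ∃ c, ¬ I c a ∧ g • c = c
  · obtain ⟨c, h1, h2⟩ := k
    exact ⟨c, h.ce_of_fix ha h1 h2⟩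
  have key : ∀ u, ¬ I u a → ∃ l, I u l ∧ g • l = l := fun u hu => by
    obtain ⟨l, h1, h2⟩ := h.line u (g • u)
    obtain ⟨c, h3, h4⟩ := h.pt l a
    exact ⟨l, h1, h.leq ((h.inv g u l).2 h1) (h.mem' h3 (ha c h4)) h2 h3 fun e =>
      hu ((h.inv g u a).1 (by rw [e, h.ax_fix ha]; exact h4))⟩
  obtain ⟨u, hu, -⟩ := h.off2 a a
  obtain ⟨l, h1, h2⟩ := key u hu
  obtain ⟨c, h3, h4⟩ := h.pt l a
  refine ⟨c, fun m hm => ?_⟩
  by_cases e : m = a
  · rw [e, h.ax_fix ha]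
  obtain ⟨w, h5, h6, -⟩ := h.ex3 m c c
  have h7 : ¬ I w a := fun k => h6 (h.peq h5 hm k h4 e)
  obtain ⟨l', h8, h9⟩ := key w h7
  by_cases e' : l' = l
  · rw [h.leq h5 hm (e' ▸ h8) h3 h6, h2]
  obtain ⟨d, k1, k2⟩ := h.pt l' l
  have k3 : I d a := by_contra fun e => k ⟨d, e, h.fix_pt k1 k2 e' h9 h2⟩
  rw [h.peq k2 h3 k3 h4 fun e => hu (e ▸ h1)] at k1
  rw [h.leq h5 hm h8 k1 h6, h9]

theorem fix_cases (h1 : g ≠ 1) (ha : Ax I g a) (hc : Ce I g c) (hu : g • u = u) : u = c ∨ I u a :=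
  or_iff_not_imp_right.2 fun k => by_contra fun e => h1 (h.one_of_ce (h.ce_of_fix ha k hu) hc e)

theorem fix_cases' (h1 : g ≠ 1) (ha : Ax I g a) (hc : Ce I g c) (hu : g • l = l) : l = a ∨ I c l :=
  h.dual.fix_cases h1 hc ha hu

variable [Finite P] [Finite L]

theorem dvd_of_el {r : ℕ} [Fact r.Prime] (h0 : g ^ r = 1) (h1 : g ≠ 1) (ha : Ax I g a) (hc : Ce I g c) (k : I c a) :
    r ∣ n := by
  obtain ⟨l, h2, h3, -⟩ := h.toPl.dual.ex3 c a a
  have := ncard_modEq' h0 (S := {q | I q l ∧ q ≠ c}) fun s hs => ⟨h.mem hs.1 (hc l h2), fun e =>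
    hs.2 (by rw [← inv_fix (ha c k), ← e, inv_smul_smul])⟩
  rw [h.pc' h2, show {s ∈ {q | I q l ∧ q ≠ c} | g • s = s} = ∅ from Set.eq_empty_of_forall_notMem fun s hs =>
    (h.fix_cases h1 ha hc hs.2).elim hs.1.2 fun e => hs.1.2 (h.peq hs.1.1 h2 e k h3), Set.ncard_empty] at this
  exact (Nat.modEq_zero_iff_dvd).1 this

theorem baer_aux (hz : z * z = 1) (hl : z • l = l) (ha : ¬ Ax I z l) : {p | ¬ I p l ∧ z • p = p}.ncard = n := by
  obtain ⟨u, h1, h2⟩ : ∃ u, I u l ∧ z • u ≠ u := by simpa [Ax] using ha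
  choose f hf hf' using fun p => h.line u p
  rw [← h.toPl.dual.pc' h1]
  refine Set.ncard_congr (fun p _ => f p) (fun p hp => ⟨hf p, fun e => hp.1 (e ▸ hf' p)⟩) (fun p q hp hq e => ?_)
    fun m hm => ?_
  · by_contra k
    exact h2 (h.fix_pt (hf p) h1 (fun e => hp.1 (e ▸ hf' p)) (h.fix_line (hf' p) (e ▸ hf' q) k hp.2 hq.2) hl)
  · have h3 : z • m ≠ m := fun e => h2 (h.fix_pt hm.1 h1 hm.2 e hl)
    obtain ⟨p, k1, k2⟩ := h.pt m (z • m)
    have k3 : z • p = p := h.peq ((h.inv z p m).2 k1) k2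
      (by simpa [← mul_smul, hz] using (h.inv z p _).2 k2) k1 h3
    have k4 : u ≠ p := fun e => h2 (e ▸ k3)
    exact ⟨p, ⟨fun e => k4 (h.peq hm.1 k1 h1 e hm.2), k3⟩, h.leq (hf p) (hf' p) hm.1 k1 k4⟩

theorem baer_aux2 (hz : z * z = 1) (ha : ∀ l, ¬ Ax I z l) :
    ∃ t, (∀ l, z • l = l → {p | I p l ∧ z • p = p}.ncard = t) ∧ {p : P | z • p = p}.ncard = t + n ∧
      ∃ (l : L) (c : P), z • l = l ∧ z • c = c ∧ ¬ I c l := by
  have key : ∀ l, z • l = l → {p : P | z • p = p}.ncard = {p | I p l ∧ z • p = p}.ncard + n := fun l hl => by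
    rw [← h.baer_aux hz hl (ha l), ← Set.ncard_union_eq (Set.disjoint_left.2 fun p k k' => k'.1 k.1)]
    congr 1; ext p; simp only [Set.mem_ofPred_eq, Set.mem_union]; tauto
  obtain ⟨l0⟩ := h.toPl.dual.ne
  obtain ⟨u, -, h2⟩ : ∃ u, I u l0 ∧ z • u ≠ u := by simpa [Ax] using ha l0
  obtain ⟨l, h3, h4⟩ := h.line u (z • u)
  have hl : z • l = l := h.leq ((h.inv z u l).2 h3) (by simpa [← mul_smul, hz] using (h.inv z _ l).2 h4) h4 h3 h2
  obtain ⟨c, hc⟩ := Set.nonempty_of_ncard_ne_zero ((h.baer_aux hz hl (ha l)).trans_ne (by have := h.two; omega))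
  exact ⟨_, fun m hm => Nat.add_right_cancel ((key m hm).symm.trans (key l hl)), key l hl, l, c, hl, hc.2, hc.1⟩

/-- Baer's theorem on involutions. -/
theorem baer (hz : z * z = 1) (ha : ∀ l, ¬ Ax I z l) : ∃ t, t * t = n ∧
    (∀ l, z • l = l → {p | I p l ∧ z • p = p}.ncard = t + 1) ∧
    (∀ p, z • p = p → {l | I p l ∧ z • l = l}.ncard = t + 1) ∧ ∃ p : P, z • p = p := by
  classical
  obtain ⟨t, h1, h2, l, c, hl, hc, hcl⟩ := h.baer_aux2 hz ha
  obtain ⟨s, h3, -⟩ := h.dual.baer_aux2 hz fun c k => let ⟨a, k⟩ := h.dual.exists_ce k; ha a k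
  choose f hf hf' using fun p => h.line c p
  have e1 : t = s := by
    rw [← h1 l hl, ← h3 c hc]
    refine Set.ncard_congr (fun p _ => f p) (fun p hp => ⟨hf p, h.fix_line (hf p) (hf' p) (fun e => hcl (e ▸ hp.1)) hc hp.2⟩)
      (fun p q hp hq e => h.peq (hf' p) (e ▸ hf' q) hp.1 hq.1 fun e => hcl (e ▸ hf p)) fun m hm => ?_
    obtain ⟨p, k1, k2⟩ := h.pt m l
    have k3 : m ≠ l := fun e => hcl (e ▸ hm.1)
    exact ⟨p, ⟨k2, h.fix_pt k1 k2 k3 hm.2 hl⟩, h.leq (hf p) (hf' p) hm.1 k1 fun e => hcl (e ▸ k2)⟩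
  subst e1
  have := Fintype.ofFinite P
  have := Fintype.ofFinite L
  have e2 : ({p : P | z • p = p} \ {c}).toFinset.card = ∑ m ∈ {m | I c m ∧ z • m = m}.toFinset, (t - 1) := by
    rw [Finset.card_eq_sum_card_fiberwise (f := f) (t := {m | I c m ∧ z • m = m}.toFinset) fun p hp => by
      simp only [Set.coe_toFinset, Set.mem_sdiff, Set.mem_ofPred_eq, Set.mem_singleton_iff] at hp ⊢
      exact ⟨hf p, h.fix_line (hf p) (hf' p) (Ne.symm hp.2) hc hp.1⟩]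
    refine Finset.sum_congr rfl fun m hm => ?_
    rw [Set.mem_toFinset] at hm
    rw [← h1 m hm.2, ← Set.ncard_sdiff_singleton_of_mem (a := c) (by exact ⟨hm.1, hc⟩), Set.ncard_eq_toFinset_card']
    congr 1; ext p
    simp only [Finset.mem_filter, Set.mem_toFinset, Set.mem_sdiff, Set.mem_ofPred_eq, Set.mem_singleton_iff]
    exact ⟨fun ⟨⟨k1, k2⟩, k3⟩ => ⟨⟨k3 ▸ hf' p, k1⟩, k2⟩,
      fun ⟨⟨k1, k2⟩, k3⟩ => ⟨⟨k2, k3⟩, h.leq (hf p) (hf' p) hm.1 k1 (Ne.symm k3)⟩⟩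
  rw [Finset.sum_const, ← Set.ncard_eq_toFinset_card', ← Set.ncard_eq_toFinset_card', h3 c hc,
    Set.ncard_sdiff_singleton_of_mem (by exact hc), h2, smul_eq_mul] at e2
  have := h.two
  rcases t with _ | t
  · simp at e2; omega
  · refine ⟨t, ?_, h1, h3, c, hc⟩
    simp only [add_tsub_cancel_right, Nat.add_right_comm t 1 n] at e2
    nlinarith

theorem two_fixed (hz : z * z = 1) : ∃ p q : P, p ≠ q ∧ z • p = p ∧ z • q = q := by
  by_cases k : ∃ l, Ax I z l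
  · obtain ⟨l, k⟩ := k
    obtain ⟨p, h1, -⟩ := h.pt l l
    obtain ⟨q, h2, h3, -⟩ := h.ex3 l p p
    exact ⟨q, p, h3, k q h2, k p h1⟩
  obtain ⟨t, -, -, l, -, hl, -⟩ := h.baer_aux2 hz (not_exists.1 k)
  obtain ⟨p, q, h1, h2, h3⟩ := (Set.one_lt_ncard_iff (Set.toFinite _)).1
    (h.two.trans (h.baer_aux hz hl (not_exists.1 k l)).ge)
  exact ⟨p, q, h3, h1.2, h2.2⟩

theorem hm_conj (hh : Hm I g c a) (k : G) : Hm I (k * g * k⁻¹) (k • c) (k • a) :=
  ⟨by rw [conj_mul, hh.sq, mul_one, mul_inv_cancel], by simpa using hh.ne, h.dual.ax_conj hh.ce k, h.ax_conj hh.ax k⟩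

theorem hm_off (hn : Odd n) (hh : Hm I g c a) : ¬ I c a := fun k =>
  hn.not_two_dvd_nat (h.dvd_of_el (by rw [sq, hh.sq]) hh.ne hh.ax hh.ce k)

theorem exists_hm (hz : z * z = 1) (h1 : z ≠ 1) (hl : z • l = l) {x y : P} (k : ∀ p, I p l → z • p = p → p = x ∨ p = y) :
    ∃ c a, Hm I z c a := by
  by_contra k1
  obtain ⟨t, e, h2, -⟩ := h.baer hz fun a ha => let ⟨c, hc⟩ := h.exists_ce ha; k1 ⟨c, a, hz, h1, hc, ha⟩
  have h3 := (Set.ncard_le_ncard (s := {p | I p l ∧ z • p = p}) (t := {x, y}) fun p hp => k p hp.1 hp.2).trans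
    (Set.ncard_insert_le x {y})
  rw [h2 l hl, Set.ncard_singleton] at h3
  have := h.two
  nlinarith

/-- Ostrom's lemma. -/
theorem ostrom (hn : Odd n) (h1 : Hm I g c a) (h2 : Hm I g' c' a') (k1 : I c' a) (k2 : I c a') (hl : I c l) (hl' : I c' l) :
    ∃ d, I d a ∧ I d a' ∧ Hm I (g * g') d l := by
  have o1 := h.hm_off hn h1
  have o2 := h.hm_off hn h2
  have hcc : c ≠ c' := fun e => o1 (e ▸ k1)
  have haa : a ≠ a' := fun e => o1 (e ▸ k2)
  obtain ⟨d, hd, hd'⟩ := h.pt a a'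
  have e1 : g * g' * g⁻¹ * g'⁻¹ = 1 := h.one_of_ce
    (by simpa [mul_assoc] using h1.ce.mul (h.dual.ax_conj' h1.ce.inv (h2.ax c k2)))
    ((h.dual.ax_conj' h2.ce (h1.ax c' k1)).mul h2.ce.inv) hcc
  rw [mul_inv_eq_one, mul_inv_eq_iff_eq_mul] at e1
  have e2 : g * g' * (g * g') = 1 := by rw [mul_assoc, ← mul_assoc g', ← e1, mul_assoc g, h2.sq, mul_one, h1.sq]
  have e3 : g * g' ≠ 1 := fun e => h1.ne (h.one_of_ce h1.ce (by rw [eq_inv_of_mul_eq_one_left e]; exact h2.ce.inv) hcc)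
  have f1 : ∀ p, I p a → (g * g') • p = p → p = c' ∨ p = d := fun p hp e => by
    rw [e1, mul_smul, h1.ax p hp] at e
    exact (h.fix_cases h2.ne h2.ax h2.ce e).imp_right fun k => h.peq hp hd k hd' haa
  have f2 : ∀ p, I p a' → (g * g') • p = p → p = c ∨ p = d := fun p hp e => by
    rw [mul_smul, h2.ax p hp] at e
    exact (h.fix_cases h1.ne h1.ax h1.ce e).imp_right fun k => h.peq k hd hp hd' haa
  obtain ⟨x, b, hh⟩ := h.exists_hm e2 e3 (by rw [mul_smul, h2.ce a k1, h.ax_fix h1.ax]) f1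
  have n1 : b ≠ a := fun e => let ⟨p, k, k', k''⟩ := h.ex3 a c' d; (f1 p k (hh.ax p (e ▸ k))).elim k' k''
  have n2 : b ≠ a' := fun e => let ⟨p, k, k', k''⟩ := h.ex3 a' c d; (f2 p k (hh.ax p (e ▸ k))).elim k' k''
  have j1 := (h.fix_cases' e3 hh.ax hh.ce (by rw [mul_smul, h2.ce a k1, h.ax_fix h1.ax])).resolve_left n1.symm
  have j2 := (h.fix_cases' e3 hh.ax hh.ce (by rw [mul_smul, h.ax_fix h2.ax, h1.ce a' k2])).resolve_left n2.symm
  have j3 := (h.fix_cases e3 hh.ax hh.ce (u := c) (by rw [mul_smul, h2.ax c k2, h.dual.ax_fix h1.ce])).resolve_left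
    fun e => o1 (e ▸ j1)
  have j4 := (h.fix_cases e3 hh.ax hh.ce (u := c') (by rw [mul_smul, h.dual.ax_fix h2.ce, h1.ax c' k1])).resolve_left
    fun e => o2 (e ▸ j2)
  exact ⟨x, j1, j2, h.leq j3 j4 hl hl' hcc ▸ hh⟩

end CA

end Cfsg.Lib.PG
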